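import Cfsg.Agent.Lib.Involutions.ZStar.Q8Block

/-!
# Functions supported on the `2`-singular elements: inner products
-/

set_option autoImplicit false
set_option linter.style.haveILetI false

namespace CfsgLib.Involutions.ZStar

open Cfsg CfsgLib.Chars CfsgLib.BlockOrth
open scoped ComplexConjugate

universe u

namespace Q8Hyp

variable {K : Type u} [Group K] [Fintype K] [Fact (Nat.Prime 2)] {z : K} {S : Sylow 2 K}

/-- The part of an even function supported on the `2`-singular elements, twice it on the section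
of `z`. -/
noncomputable def lift (z : K) (θ : K → ℂ) : K → ℂ := fun g => θ g - θ g * eta z g

theorem lift_one {θ : K → ℂ} {g : K} (hg : twoPart g = 1) : lift z θ g = 0 := by
  rw [lift, eta_one hg, mul_one, sub_self]

theorem lift_z (h : Q8Hyp K z S) {θ : K → ℂ} {g : K} (hg : twoPart g = z) :
    lift z θ g = 2 * θ g := by
  rw [lift, h.eta_z hg]; ring

theorem lift_four (h : Q8Hyp K z S) {θ : K → ℂ} {g : K} (hg : orderOf (twoPart g) = 4) :
    lift z θ g = θ g := by
  rw [lift, h.eta_four hg, mul_zero, sub_zero]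

theorem isGeneralized_lift (h : Q8Hyp K z S) {θ : K → ℂ} (hθ : IsGeneralizedCharacter K θ)
    (hθz : ∀ g, θ (z * g) = θ g) {c : ℤ} (hc : Even c)
    (hθ4 : ∀ g, orderOf (twoPart g) = 4 → θ g = c) : IsGeneralizedCharacter K (lift z θ) :=
  isGeneralized_sub' hθ (h.isGeneralized_mul_eta hθ hθz hc hθ4)

theorem inner_lift_one (h : Q8Hyp K z S) {θ : K → ℂ} (hθz : ∀ g, θ (z * g) = θ g) :
    classInner (lift z θ) (principal K : K → ℂ) = classInner θ (principal K : K → ℂ) := by
  have e : lift z θ = θ - fun g => θ g * eta z g := rfl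
  rw [e, Chars.inner_sub_left, sub_eq_self, ← inner_conj, map_eq_zero]
  exact h.inner_even_odd (fun g => rfl) fun g => by simp only [hθz, h.eta_z_mul, mul_neg]

open Classical in
theorem inner_lift (h : Q8Hyp K z S) {θ θ' : K → ℂ} (hθz : ∀ g, θ (z * g) = θ g)
    (hθz' : ∀ g, θ' (z * g) = θ' g) {c c' : ℂ} (h4 : ∀ g, orderOf (twoPart g) = 4 → θ g = c)
    (h4' : ∀ g, orderOf (twoPart g) = 4 → θ' g = c') :
    classInner (lift z θ) (lift z θ') = 2 * classInner θ θ' - c * conj c' / 4 := by
  set R := ∑ w ∈ Finset.univ.filter (fun w : K => twoPart w = 1), θ w * conj (θ' w) with hR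
  set n4 : ℂ := ((Finset.univ.filter (fun g : K => orderOf (twoPart g) = 4)).card : ℂ) with hn4
  have e1 : ∑ g, lift z θ g * conj (lift z θ' g) = 4 * R + n4 * (c * conj c') := by
    rw [h.sum_eq, hR, hn4, Finset.mul_sum, ← nsmul_eq_mul, ← Finset.sum_const]
    congr 1
    · refine Finset.sum_congr rfl fun w hw => ?_
      simp only [Finset.mem_filter, Finset.mem_univ, true_and] at hw
      have hzw : twoPart (z * w) = z := by rw [(h.parts_z_mul w).1, hw, mul_one]
      rw [lift_one hw, h.lift_z hzw, h.lift_z hzw, hθz, hθz', map_mul, map_ofNat]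
      ring
    · refine Finset.sum_congr rfl fun g hg => ?_
      simp only [Finset.mem_filter, Finset.mem_univ, true_and] at hg
      rw [h.lift_four hg, h.lift_four hg, h4 g hg, h4' g hg]
  have e2 : ∑ g, θ g * conj (θ' g) = 2 * R + n4 * (c * conj c') := by
    rw [h.sum_eq, hR, hn4, Finset.mul_sum, ← nsmul_eq_mul, ← Finset.sum_const]
    congr 1
    · refine Finset.sum_congr rfl fun w hw => ?_
      rw [hθz, hθz']; ring
    · refine Finset.sum_congr rfl fun g hg => ?_
      simp only [Finset.mem_filter, Finset.mem_univ, true_and] at hg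
      rw [h4 g hg, h4' g hg]
  have e3 : 4 * n4 = (Nat.card K : ℂ) := h.card_four_filter
  rw [inner_def, inner_def, e1, e2, ← e3]
  have : n4 ≠ 0 := fun e => card_ne_zero K (by rw [← e3, e, mul_zero])
  field_simp
  ring

theorem inner_phi_lift (h : Q8Hyp K z S) {θ : K → ℂ} {c : ℂ}
    (h4 : ∀ g, orderOf (twoPart g) = 4 → θ g = c) :
    classInner (phi (K := K)) (lift z θ) = conj c :=
  h.inner_phi _ c fun g hg => by rw [h.lift_four hg, h4 g hg]

end Q8Hyp

end CfsgLib.Involutions.ZStar
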