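import Cfsg.Agent.Lib.Involutions.ZStar.Q8Fusion
import Cfsg.Agent.Lib.Involutions.ZStar.Q8Inner

/-!
# The Brauer–Suzuki theorem for quaternion Sylow subgroups of order eight
-/

set_option autoImplicit false
set_option linter.style.haveILetI false

namespace CfsgLib.Involutions.ZStar

open Cfsg CfsgLib.Chars
open scoped ComplexConjugate

universe u

variable {G : Type u} [Group G]

/-- The `2`-part does not depend on the ambient group. -/
theorem coe_twoPart [Finite G] [Fact (Nat.Prime 2)] (H : Subgroup G) (x : H) :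
    ((twoPart x : H) : G) = twoPart (x : G) := by
  obtain ⟨hc, hk, hx⟩ := twoPart_spec x
  conv_rhs => rw [← hx, Subgroup.coe_mul]
  refine (twoPart_mul (congrArg Subtype.val hc.eq :) ?_ ?_).symm
  · obtain ⟨k, hk⟩ := hk
    exact ⟨k, by rw [Subgroup.orderOf_coe, hk]⟩
  · rw [Subgroup.orderOf_coe]; exact BlockOrth.not_dvd_orderOf_pPrimePart x

namespace MinCounterexample

variable {z : G}

/-- The inequality used to pin down the constituents. -/
theorem sq_add_le {ι : Type*} [Fintype ι] (m : ι → ℤ) {a b c : ι} {N : ℤ}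
    (hab : a ≠ b) (hac : a ≠ c) (hbc : b ≠ c) (h : ∑ i, m i * m i = N) :
    m a * m a + m b * m b + m c * m c ≤ N := by
  classical
  rw [← h]
  calc m a * m a + m b * m b + m c * m c = ∑ i ∈ ({a, b, c} : Finset ι), m i * m i := by
        rw [Finset.sum_insert (by simp [hab, hac]), Finset.sum_pair hbc]; ring
    _ ≤ _ := Finset.sum_le_sum_of_subset_of_nonneg (Finset.subset_univ _)
        fun i _ _ => mul_self_nonneg _

/-- The arithmetic of the constituents in the case `|S| = 8`. -/
theorem q8_arith {ι : Type*} [Fintype ι] [DecidableEq ι] (t f m1 mX mY : ι → ℤ) (deg : ι → ℤ)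
    (o A B : ι) (n : ℤ) (hn : n * n = 1) (hoA : o ≠ A) (hoB : o ≠ B) (hAB : A ≠ B)
    (hto : t o = 1) (hA : t A * t A = 1) (hB : t B * t B = 1)
    (htr : ∀ i, i ≠ o → i ≠ A → i ≠ B → t i = 0)
    (hfo : f o = 1) (h1o : m1 o = 1) (hXo : mX o = 0) (hYo : mY o = 0)
    (hrel : ∀ i, 2 * t i = m1 i + mX i - n * mY i + f i)
    (hff : ∑ i, f i * f i = 4) (h11 : ∑ i, m1 i * m1 i = 4) (hXX : ∑ i, mX i * mX i = 4)
    (hYY : ∑ i, mY i * mY i = 4)
    (htf : ∑ i, t i * f i = 2) (ht1 : ∑ i, t i * m1 i = 2) (htX : ∑ i, t i * mX i = 2)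
    (htY : ∑ i, t i * mY i = 0) (hf1 : ∑ i, f i * m1 i = 0)
    (hdo : deg o = 1) (hdpos : ∀ i, 0 < deg i)
    (hdf : ∑ i, f i * deg i = 0) (hd1 : ∑ i, m1 i * deg i = 0) (hdX : ∑ i, mX i * deg i = 0)
    (hf : f A = t A) :
    (m1 A = 0 ∧ mX A = t A ∧ mY A = 0 ∧ m1 B = t B ∧ mX B = t B ∧ mY B = 0) ∨
      deg A = 1 := by
  have key : ∀ F : ι → ℤ, ∑ i, t i * F i = F o + t A * F A + t B * F B := fun F => by
    rw [← Finset.sum_subset (Finset.subset_univ {o, A, B}) fun i _ hi => by
      simp only [Finset.mem_insert, Finset.mem_singleton, not_or] at hi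
      rw [htr i hi.1 hi.2.1 hi.2.2, zero_mul],
      Finset.sum_insert (by simp [hoA, hoB]), Finset.sum_pair hAB, hto]
    ring
  rw [key] at htf ht1 htX htY
  rw [hfo] at htf; rw [h1o] at ht1; rw [hXo] at htX; rw [hYo] at htY
  have sf := sq_add_le f hoA hoB hAB hff
  have s1 := sq_add_le m1 hoA hoB hAB h11
  have sX := sq_add_le mX hoA hoB hAB hXX
  rw [hfo] at sf; rw [h1o] at s1; rw [hXo] at sX
  have hpA : t A = 1 ∨ t A = -1 := mul_self_eq_one_iff.1 hA
  have hqB : t B = 1 ∨ t B = -1 := mul_self_eq_one_iff.1 hB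
  have hn' : n = 1 ∨ n = -1 := mul_self_eq_one_iff.1 hn
  have rA := hrel A
  have rB := hrel B
  -- `f` vanishes at `B`
  have hfB : f B = 0 := by
    rw [hf, hA] at htf
    rcases hqB with h | h <;> rw [h] at htf <;> omega
  -- the coefficients of `mX`
  have hX : mX A = t A ∧ mX B = t B := by
    have b1 : -2 ≤ mX A ∧ mX A ≤ 2 := ⟨by nlinarith, by nlinarith⟩
    have b2 : -2 ≤ mX B ∧ mX B ≤ 2 := ⟨by nlinarith, by nlinarith⟩
    have hzero : ∀ i j, mX i * mX i = 4 → j ≠ i → mX j = 0 := fun i j h4 hji => by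
      by_contra hj
      have := Finset.sum_pair hji.symm (f := fun k => mX k * mX k)
      have hle : ∑ k ∈ ({i, j} : Finset ι), mX k * mX k ≤ 4 := hXX ▸
        Finset.sum_le_sum_of_subset_of_nonneg (Finset.subset_univ _) fun k _ _ => mul_self_nonneg _
      have hpos : 0 < mX j * mX j := mul_self_pos.2 hj
      rw [this, h4] at hle
      omega
    have hex : ∀ i, mX i * mX i = 4 → False := fun i h4 => by
      have e := Finset.sum_eq_single i (s := Finset.univ) (f := fun k => mX k * deg k)
        (fun j _ hji => by rw [hzero i j h4 hji, zero_mul]) (fun h => absurd (Finset.mem_univ _) h)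
      rw [hdX] at e
      rcases mul_eq_zero.1 e.symm with h0 | h0
      · rw [h0] at h4; norm_num at h4
      · exact (hdpos i).ne' h0
    have a2 : ∀ i, mX i ≠ 2 ∧ mX i ≠ -2 := fun i =>
      ⟨fun e => hex i (by rw [e]; norm_num), fun e => hex i (by rw [e]; norm_num)⟩
    have a2A := a2 A
    have a2B := a2 B
    rcases hpA with hp | hp <;> rcases hqB with hq | hq <;> rw [hp, hq] at htX ⊢ <;>
      constructor <;> omega
  -- the coefficients of `m1`
  have b1 : -1 ≤ m1 A ∧ m1 A ≤ 1 := ⟨by nlinarith, by nlinarith⟩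
  have b2 : -1 ≤ m1 B ∧ m1 B ≤ 1 := ⟨by nlinarith, by nlinarith⟩
  rcases eq_or_ne (m1 A) 0 with h0 | h0
  · left
    have hB1 : m1 B = t B := by
      rw [h0] at ht1
      rcases hqB with hq | hq <;> rw [hq] at ht1 ⊢ <;> omega
    refine ⟨h0, hX.1, ?_, hB1, hX.2, ?_⟩
    · rw [h0, hX.1, hf] at rA
      rcases hn' with e | e <;> rw [e] at rA <;> omega
    · rw [hB1, hX.2, hfB] at rB
      rcases hn' with e | e <;> rw [e] at rB <;> omega
  · right
    have hB0 : m1 B = 0 ∧ m1 A = t A := by
      rcases hpA with hp | hp <;> rcases hqB with hq | hq <;> rw [hp, hq] at ht1 <;>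
        constructor <;> (try rw [hp]) <;> omega
    -- `f + m1` is concentrated at `o` and `A`
    have hsq : ∑ i, (f i + m1 i) * (f i + m1 i) = 8 := by
      simp only [add_mul, mul_add, Finset.sum_add_distrib]
      rw [hff, h11, hf1, Finset.sum_congr rfl fun i _ => mul_comm (m1 i) (f i), hf1]
      norm_num
    have hzero : ∀ j, j ≠ o → j ≠ A → f j + m1 j = 0 := fun j hjo hjA => by
      by_contra hj
      have := sq_add_le (fun i => f i + m1 i) hoA hjo.symm hjA.symm hsq
      simp only [hfo, h1o, hf, hB0.2] at this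
      have hpos : 0 < (f j + m1 j) * (f j + m1 j) := mul_self_pos.2 hj
      have e4 : (t A + t A) * (t A + t A) = 4 := by linear_combination 4 * hA
      rw [e4] at this
      omega
    have e : ∑ i, (f i + m1 i) * deg i = 2 * 1 + 2 * t A * deg A := by
      rw [← Finset.sum_subset (Finset.subset_univ {o, A}) fun i _ hi => by
        simp only [Finset.mem_insert, Finset.mem_singleton, not_or] at hi
        rw [hzero i hi.1 hi.2, zero_mul], Finset.sum_pair hoA, hfo, h1o, hdo, hf, hB0.2]
      ring
    simp only [add_mul, Finset.sum_add_distrib, hdf, hd1, add_zero] at e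
    have := hdpos A
    rcases hpA with hp | hp <;> rw [hp] at e <;> omega

theorem false_of_q8 [Finite G] (h : MinCounterexample G z) (S : Sylow 2 G) (hzS : z ∈ S)
    (e : (S : Subgroup G) ≃* QuaternionGroup 2) : False := by
  classical
  haveI := Fintype.ofFinite G
  haveI : Fact (Nat.Prime 2) := ⟨Nat.prime_two⟩
  haveI := irrFintype G
  obtain ⟨S', hK⟩ := h.q8Hyp S hzS e
  haveI := Fintype.ofFinite (Subgroup.centralizer ({z} : Set G))
  haveI := irrFintype (Subgroup.centralizer ({z} : Set G))
  set zC : (Subgroup.centralizer ({z} : Set G)) := ⟨z, Subgroup.mem_centralizer_singleton_iff.2 rfl⟩ with hzC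
  obtain ⟨M, hMax, h2M⟩ := BlockOrth.exists_maximal_above 2
  have hM : IsPModular 2 M := ⟨Nat.prime_two, hMax, h2M⟩
  haveI := Blocks.isPrime_of_isPModular hM
  obtain ⟨D⟩ := hK.nonempty_data hM
  have h1reg : twoPart (1 : (Subgroup.centralizer ({z} : Set G))) = 1 := twoPart_of_regular (by rw [orderOf_one]; decide)
  have hnn : (D.nY : ℂ) * D.nY = 1 := by rcases D.nY_cases with x | x <;> simp [x]
  -- the projective characters and the twisted one
  set D1 : (Subgroup.centralizer ({z} : Set G)) → ℂ := (principal (Subgroup.centralizer ({z} : Set G)) : (Subgroup.centralizer ({z} : Set G)) → ℂ) + (D.Z : (Subgroup.centralizer ({z} : Set G)) → ℂ) with hD1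
  set DX : (Subgroup.centralizer ({z} : Set G)) → ℂ := (D.X : (Subgroup.centralizer ({z} : Set G)) → ℂ) + (D.Z : (Subgroup.centralizer ({z} : Set G)) → ℂ) with hDX
  set DY : (Subgroup.centralizer ({z} : Set G)) → ℂ := (D.Y : (Subgroup.centralizer ({z} : Set G)) → ℂ) + (D.nY : ℂ) • (D.Z : (Subgroup.centralizer ({z} : Set G)) → ℂ) with hDY
  set DT : (Subgroup.centralizer ({z} : Set G)) → ℂ := (principal (Subgroup.centralizer ({z} : Set G)) : (Subgroup.centralizer ({z} : Set G)) → ℂ) + (D.X : (Subgroup.centralizer ({z} : Set G)) → ℂ) with hDT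
  have hg : ∀ χ : IrrCharacter (Subgroup.centralizer ({z} : Set G)), IsGeneralizedCharacter (Subgroup.centralizer ({z} : Set G)) (χ : (Subgroup.centralizer ({z} : Set G)) → ℂ) := fun χ =>
    isGeneralized_ofChar (isCharacter_of_irr χ.2)
  have gY : IsGeneralizedCharacter (Subgroup.centralizer ({z} : Set G)) ((D.nY : ℂ) • (D.Z : (Subgroup.centralizer ({z} : Set G)) → ℂ)) := by
    rcases D.nY_cases with x | x <;> rw [x]
    · simpa using hg D.Z
    · simpa using isGeneralized_sub' (isGeneralized_sub' (hg D.Z) (hg D.Z)) (hg D.Z)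
  have g1 : IsGeneralizedCharacter (Subgroup.centralizer ({z} : Set G)) D1 := isGeneralized_add' (hg _) (hg _)
  have gX : IsGeneralizedCharacter (Subgroup.centralizer ({z} : Set G)) DX := isGeneralized_add' (hg _) (hg _)
  have gY' : IsGeneralizedCharacter (Subgroup.centralizer ({z} : Set G)) DY := isGeneralized_add' (hg _) gY
  have gT : IsGeneralizedCharacter (Subgroup.centralizer ({z} : Set G)) DT := isGeneralized_add' (hg _) (hg _)
  have ev1 : ∀ g, D1 (zC * g) = D1 g := fun g => by simp [hD1, principal_apply, D.evenZ]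
  have evX : ∀ g, DX (zC * g) = DX g := fun g => by simp [hDX, D.evenX, D.evenZ]
  have evY : ∀ g, DY (zC * g) = DY g := fun g => by simp [hDY, D.evenY, D.evenZ]
  have evT : ∀ g, DT (zC * g) = DT g := fun g => by simp [hDT, principal_apply, D.evenX]
  have f1 : ∀ g, orderOf (twoPart g) = 4 → D1 g = ((0 : ℤ) : ℂ) := fun g hg => by
    simp [hD1, principal_apply, D.fourZ g hg]
  have fX : ∀ g, orderOf (twoPart g) = 4 → DX g = ((0 : ℤ) : ℂ) := fun g hg => by
    simp [hDX, D.fourX g hg, D.fourZ g hg]
  have fY : ∀ g, orderOf (twoPart g) = 4 → DY g = ((0 : ℤ) : ℂ) := fun g hg => by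
    simp [hDY, D.fourY g hg, D.fourZ g hg]
  have fT : ∀ g, orderOf (twoPart g) = 4 → DT g = ((2 : ℤ) : ℂ) := fun g hg => by
    simp [hDT, principal_apply, D.fourX g hg]; norm_num
  set F1 := Q8Hyp.lift zC D1 with hF1
  set FX := Q8Hyp.lift zC DX with hFX
  set FY := Q8Hyp.lift zC DY with hFY
  set FT := Q8Hyp.lift zC DT with hFT
  set Fp : (Subgroup.centralizer ({z} : Set G)) → ℂ := Q8Hyp.phi with hFp
  have gF1 : IsGeneralizedCharacter (Subgroup.centralizer ({z} : Set G)) F1 := hK.isGeneralized_lift g1 ev1 (by decide) f1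
  have gFX : IsGeneralizedCharacter (Subgroup.centralizer ({z} : Set G)) FX := hK.isGeneralized_lift gX evX (by decide) fX
  have gFY : IsGeneralizedCharacter (Subgroup.centralizer ({z} : Set G)) FY := hK.isGeneralized_lift gY' evY (by decide) fY
  have gFT : IsGeneralizedCharacter (Subgroup.centralizer ({z} : Set G)) FT := hK.isGeneralized_lift gT evT (by decide) fT
  have gFp : IsGeneralizedCharacter (Subgroup.centralizer ({z} : Set G)) Fp := hK.isGeneralized_phi
  -- all vanish on the `2`-regular elements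
  let Van : ((Subgroup.centralizer ({z} : Set G)) → ℂ) → Prop := fun F => ∀ x, twoPart x = 1 → F x = 0
  have vF1 : Van F1 := fun x hx => Q8Hyp.lift_one hx
  have vFX : Van FX := fun x hx => Q8Hyp.lift_one hx
  have vFY : Van FY := fun x hx => Q8Hyp.lift_one hx
  have vFT : Van FT := fun x hx => Q8Hyp.lift_one hx
  have vFp : Van Fp := fun x hx => Q8Hyp.phi_ne (by rw [hx, orderOf_one]; omega)
  -- the inner products in the centraliser
  have oX : classInner (principal (Subgroup.centralizer ({z} : Set G)) : (Subgroup.centralizer ({z} : Set G)) → ℂ) (D.X : (Subgroup.centralizer ({z} : Set G)) → ℂ) = 0 := inner_irr_ne D.X_ne.symm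
  have oY : classInner (principal (Subgroup.centralizer ({z} : Set G)) : (Subgroup.centralizer ({z} : Set G)) → ℂ) (D.Y : (Subgroup.centralizer ({z} : Set G)) → ℂ) = 0 := inner_irr_ne D.Y_ne.symm
  have oZ : classInner (principal (Subgroup.centralizer ({z} : Set G)) : (Subgroup.centralizer ({z} : Set G)) → ℂ) (D.Z : (Subgroup.centralizer ({z} : Set G)) → ℂ) = 0 := inner_irr_ne D.Z_ne.symm
  have oX' : classInner (D.X : (Subgroup.centralizer ({z} : Set G)) → ℂ) (principal (Subgroup.centralizer ({z} : Set G)) : (Subgroup.centralizer ({z} : Set G)) → ℂ) = 0 := inner_irr_ne D.X_ne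
  have oY' : classInner (D.Y : (Subgroup.centralizer ({z} : Set G)) → ℂ) (principal (Subgroup.centralizer ({z} : Set G)) : (Subgroup.centralizer ({z} : Set G)) → ℂ) = 0 := inner_irr_ne D.Y_ne
  have oZ' : classInner (D.Z : (Subgroup.centralizer ({z} : Set G)) → ℂ) (principal (Subgroup.centralizer ({z} : Set G)) : (Subgroup.centralizer ({z} : Set G)) → ℂ) = 0 := inner_irr_ne D.Z_ne
  have o1 := inner_irr_ne D.XY
  have o2 := inner_irr_ne D.XZ
  have o3 := inner_irr_ne D.YZ
  have o4 := inner_irr_ne D.XY.symm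
  have o5 := inner_irr_ne D.XZ.symm
  have o6 := inner_irr_ne D.YZ.symm
  have i11 : classInner F1 F1 = 4 := by
    rw [hK.inner_lift ev1 ev1 f1 f1, hD1]
    simp only [Chars.inner_add_left, Chars.inner_add_right, inner_irr_self, oZ, oZ', Int.cast_zero,
      zero_mul, zero_div, sub_zero]
    norm_num
  have iXX : classInner FX FX = 4 := by
    rw [hK.inner_lift evX evX fX fX, hDX]
    simp only [Chars.inner_add_left, Chars.inner_add_right, inner_irr_self, o2, o5, Int.cast_zero, zero_mul,
      zero_div, sub_zero]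
    norm_num
  have iYY : classInner FY FY = 4 := by
    rw [hK.inner_lift evY evY fY fY, hDY]
    simp only [Chars.inner_add_left, Chars.inner_add_right, Chars.inner_smul_left, Chars.inner_smul_right,
      inner_irr_self, o3, o6, map_intCast, Int.cast_zero, zero_mul, zero_div, sub_zero]
    linear_combination 2 * hnn
  have iTT : classInner FT FT = 3 := by
    rw [hK.inner_lift evT evT fT fT, hDT]
    simp only [Chars.inner_add_left, Chars.inner_add_right, inner_irr_self, oX, oX', map_intCast]
    norm_num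
  have iT1 : classInner FT F1 = 2 := by
    rw [hK.inner_lift evT ev1 fT f1, hDT, hD1]
    simp only [Chars.inner_add_left, Chars.inner_add_right, inner_irr_self, oX', oZ, o2, map_intCast,
      Int.cast_zero, mul_zero, zero_div, sub_zero]
    norm_num
  have iTX : classInner FT FX = 2 := by
    rw [hK.inner_lift evT evX fT fX, hDT, hDX]
    simp only [Chars.inner_add_left, Chars.inner_add_right, inner_irr_self, oX, oZ, o2, map_intCast,
      Int.cast_zero, mul_zero, zero_div, sub_zero]
    norm_num
  have iTY : classInner FT FY = 0 := by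
    rw [hK.inner_lift evT evY fT fY, hDT, hDY]
    simp only [Chars.inner_add_left, Chars.inner_add_right, Chars.inner_smul_right, oY, oZ, o1, o2, map_intCast,
      Int.cast_zero, map_zero, mul_zero, zero_div, sub_zero, add_zero]
  have ipp : classInner Fp Fp = 4 := hK.inner_phi_self
  have ip1 : classInner Fp F1 = 0 := by rw [hFp, hF1, hK.inner_phi_lift f1]; simp
  have iTp : classInner FT Fp = 2 := by
    rw [← inner_conj, hFp, hFT, hK.inner_phi_lift fT]; simp
  have jp : classInner Fp (principal (Subgroup.centralizer ({z} : Set G)) : (Subgroup.centralizer ({z} : Set G)) → ℂ) = 1 := hK.inner_phi_one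
  have j1 : classInner F1 (principal (Subgroup.centralizer ({z} : Set G)) : (Subgroup.centralizer ({z} : Set G)) → ℂ) = 1 := by
    rw [hF1, hK.inner_lift_one ev1, hD1]
    simp only [Chars.inner_add_left, inner_irr_self, oZ', add_zero]
  have jX : classInner FX (principal (Subgroup.centralizer ({z} : Set G)) : (Subgroup.centralizer ({z} : Set G)) → ℂ) = 0 := by
    rw [hFX, hK.inner_lift_one evX, hDX]
    simp only [Chars.inner_add_left, oX', oZ', add_zero]
  have jY : classInner FY (principal (Subgroup.centralizer ({z} : Set G)) : (Subgroup.centralizer ({z} : Set G)) → ℂ) = 0 := by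
    rw [hFY, hK.inner_lift_one evY, hDY]
    simp only [Chars.inner_add_left, Chars.inner_smul_left, oY', oZ', mul_zero, add_zero]
  have jT : classInner FT (principal (Subgroup.centralizer ({z} : Set G)) : (Subgroup.centralizer ({z} : Set G)) → ℂ) = 1 := by
    rw [hFT, hK.inner_lift_one evT, hDT]
    simp only [Chars.inner_add_left, inner_irr_self, oX', add_zero]
  have hlin : ∀ g : (Subgroup.centralizer ({z} : Set G)), 2 * FT g = F1 g + FX g - (D.nY : ℂ) * FY g + Fp g := by
    intro g
    rcases hK.cases_twoPart g with hg | hg | hg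
    · rw [vFT g hg, vF1 g hg, vFX g hg, vFY g hg, vFp g hg]; ring
    · rw [hFT, hF1, hFX, hFY, hFp, hK.lift_z hg, hK.lift_z hg, hK.lift_z hg, hK.lift_z hg,
        Q8Hyp.phi_ne (by rw [hg, hK.invol]; omega)]
      have hzg : twoPart (zC * g) = 1 := by rw [(hK.parts_z_mul g).1, hg, hzC, hK.zz]
      have hr := D.regZ _ hzg
      rw [D.evenX, D.evenY, D.evenZ] at hr
      simp only [hDT, hD1, hDX, hDY, Pi.add_apply, Pi.smul_apply, smul_eq_mul, principal_apply]
      linear_combination (2 * (D.nY : ℂ) * D.nY - 4) * hr +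
        (2 + 2 * (D.X : (Subgroup.centralizer ({z} : Set G)) → ℂ) g + 2 * (D.nY : ℂ) * (D.Y : (Subgroup.centralizer ({z} : Set G)) → ℂ) g) * hnn
    · rw [hFT, hF1, hFX, hFY, hFp, hK.lift_four hg, hK.lift_four hg, hK.lift_four hg,
        hK.lift_four hg, fT g hg, f1 g hg, fX g hg, fY g hg, Q8Hyp.phi_four hg]
      push_cast; ring
  -- the trivial intersection set
  set TI : Set G := {x | ∃ c : (Subgroup.centralizer ({z} : Set G)), (c : G) = x ∧ twoPart c ≠ 1} with hTIdef
  have hTI : ∀ g : G, g ∉ (Subgroup.centralizer ({z} : Set G)) → ∀ t ∈ TI, g * t * g⁻¹ ∈ TI → t = 1 := by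
    rintro g hg t ⟨c, rfl, hc⟩ ⟨d, hd, hd1⟩
    exfalso
    apply hg
    have hconj : ((twoPart d : (Subgroup.centralizer ({z} : Set G))) : G) = g * ((twoPart c : (Subgroup.centralizer ({z} : Set G))) : G) * g⁻¹ := by
      rw [coe_twoPart, coe_twoPart, hd, twoPart_conj]
    have hsame : orderOf (twoPart d) = orderOf (twoPart c) := by
      rw [← Subgroup.orderOf_coe, hconj, orderOf_conj_eq, Subgroup.orderOf_coe]
    have hz : (zC : G) = g * (zC : G) * g⁻¹ := by
      rcases hK.cases_two (twoPart_spec c).2.1 with x | x | ⟨x4, x⟩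
      · exact absurd x hc
      · rcases hK.cases_two (twoPart_spec d).2.1 with y | y | ⟨y4, -⟩
        · exact absurd y hd1
        · rw [x, y] at hconj; exact hconj
        · rw [x, y4, hK.invol] at hsame; omega
      · rcases hK.cases_two (twoPart_spec d).2.1 with y | y | ⟨-, y⟩
        · exact absurd y hd1
        · rw [y, x4, hK.invol] at hsame; omega
        · calc (zC : G) = ((twoPart d : (Subgroup.centralizer ({z} : Set G))) : G) *
                ((twoPart d : (Subgroup.centralizer ({z} : Set G))) : G) :=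
                (congrArg Subtype.val y).symm
            _ = g * (((twoPart c : (Subgroup.centralizer ({z} : Set G))) : G) *
                ((twoPart c : (Subgroup.centralizer ({z} : Set G))) : G)) * g⁻¹ := by
                rw [hconj]; group
            _ = g * (zC : G) * g⁻¹ := by rw [← congrArg Subtype.val x]; rfl
    exact Subgroup.mem_centralizer_singleton_iff.2 (eq_mul_inv_iff_mul_eq.1 hz).symm
  have hsupp : ∀ F : (Subgroup.centralizer ({z} : Set G)) → ℂ, Van F → ∀ x : (Subgroup.centralizer ({z} : Set G)), (x : G) ∉ TI → F x = 0 := fun F hF x hx =>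
    hF x (by by_contra hne; exact hx ⟨x, rfl, hne⟩)
  -- the coefficients
  have hcoef : ∀ F, IsGeneralizedCharacter (Subgroup.centralizer ({z} : Set G)) F → ∃ m : IrrCharacter G → ℤ,
      ∀ χ : IrrCharacter G, classInner (indFun (Subgroup.centralizer ({z} : Set G)) F) (χ : G → ℂ) = (m χ : ℂ) := fun F hF => by
    obtain ⟨-, hm⟩ := isGeneralized_iff_inner.1 (isGeneralized_indFun (Subgroup.centralizer ({z} : Set G)) hF)
    choose m hm using hm
    exact ⟨m, hm⟩
  obtain ⟨t, ht⟩ := hcoef FT gFT
  obtain ⟨f, hf⟩ := hcoef Fp gFp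
  obtain ⟨m1, hm1⟩ := hcoef F1 gF1
  obtain ⟨mX, hmX⟩ := hcoef FX gFX
  obtain ⟨mY, hmY⟩ := hcoef FY gFY
  have hres : ∀ (F : (Subgroup.centralizer ({z} : Set G)) → ℂ) (χ : IrrCharacter G),
      classInner (indFun (Subgroup.centralizer ({z} : Set G)) F) (χ : G → ℂ) = classInner F (fun c : (Subgroup.centralizer ({z} : Set G)) => (χ : G → ℂ) c) :=
    fun F χ => inner_indFun (Subgroup.centralizer ({z} : Set G)) F (isClassFunction_irr χ)
  have hpair : ∀ F F', IsGeneralizedCharacter (Subgroup.centralizer ({z} : Set G)) F → IsGeneralizedCharacter (Subgroup.centralizer ({z} : Set G)) F' → Van F → Van F' →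
      ∀ m m' : IrrCharacter G → ℤ, (∀ χ : IrrCharacter G, classInner (indFun (Subgroup.centralizer ({z} : Set G)) F) (χ : G → ℂ) = (m χ : ℂ)) →
      (∀ χ : IrrCharacter G, classInner (indFun (Subgroup.centralizer ({z} : Set G)) F') (χ : G → ℂ) = (m' χ : ℂ)) →
      ∀ v : ℤ, classInner F F' = (v : ℂ) → ∑ χ, m χ * m' χ = v := by
    intro F F' hF hF' vF vF' m m' hm hm' v hv
    have e := inner_indFun_TI TI (Subgroup.centralizer ({z} : Set G)) hTI (ψ := F) (θ := F')
      (isClassFunction_of_isGeneralized hF') (hsupp F vF) (hsupp F' vF') (vF 1 h1reg)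
    rw [hv, inner_eq_sum (isClassFunction_indFun (Subgroup.centralizer ({z} : Set G)) F)] at e
    simp only [hm, hm', map_intCast] at e
    exact_mod_cast e
  have hone : ∀ F : (Subgroup.centralizer ({z} : Set G)) → ℂ, classInner (indFun (Subgroup.centralizer ({z} : Set G)) F) (principal G : G → ℂ) =
      classInner F (principal (Subgroup.centralizer ({z} : Set G)) : (Subgroup.centralizer ({z} : Set G)) → ℂ) := fun F => by
    rw [hres]; rfl
  have hto : t (principal G) = 1 := by
    have := ht (principal G); rw [hone, jT] at this; exact_mod_cast this.symm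
  have hfo : f (principal G) = 1 := by
    have := hf (principal G); rw [hone, jp] at this; exact_mod_cast this.symm
  have h1o : m1 (principal G) = 1 := by
    have := hm1 (principal G); rw [hone, j1] at this; exact_mod_cast this.symm
  have hXo : mX (principal G) = 0 := by
    have := hmX (principal G); rw [hone, jX] at this; exact_mod_cast this.symm
  have hYo : mY (principal G) = 0 := by
    have := hmY (principal G); rw [hone, jY] at this; exact_mod_cast this.symm
  have hrel : ∀ χ, 2 * t χ = m1 χ + mX χ - D.nY * mY χ + f χ := by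
    intro χ
    have e : ((2 * t χ : ℤ) : ℂ) = ((m1 χ + mX χ - D.nY * mY χ + f χ : ℤ) : ℂ) := by
      push_cast
      rw [← ht, ← hf, ← hm1, ← hmX, ← hmY, hres, hres, hres, hres, hres]
      simp only [inner_def, Finset.mul_sum, ← Finset.sum_add_distrib, ← Finset.sum_sub_distrib]
      refine Finset.sum_congr rfl fun g _ => ?_
      linear_combination (Nat.card (Subgroup.centralizer ({z} : Set G)) : ℂ)⁻¹ * conj ((χ : G → ℂ) g) * hlin g
    exact_mod_cast e
  have hreg : ∀ F : (Subgroup.centralizer ({z} : Set G)) → ℂ, Van F → ∀ g : G, ¬ 2 ∣ orderOf g → indFun (Subgroup.centralizer ({z} : Set G)) F g = 0 := by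
    intro F hF g hg
    rw [indFun_apply, Finset.sum_eq_zero fun x _ => ?_, mul_zero]
    by_cases hx : x⁻¹ * g * x ∈ (Subgroup.centralizer ({z} : Set G))
    · rw [extendByZero_of_mem (Subgroup.centralizer ({z} : Set G)) F hx]
      refine hF _ (twoPart_of_regular ?_)
      rw [← Subgroup.orderOf_coe]
      show ¬ 2 ∣ orderOf (x⁻¹ * g * x)
      rwa [show x⁻¹ * g * x = x⁻¹ * g * x⁻¹⁻¹ by rw [inv_inv], orderOf_conj_eq]
    · exact extendByZero_of_not_mem _ _ hx
  have hone' : ¬ 2 ∣ orderOf (1 : G) := by rw [orderOf_one]; decide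
  have hdeg : ∀ F, Van F → ∀ m : IrrCharacter G → ℤ,
      (∀ χ : IrrCharacter G, classInner (indFun (Subgroup.centralizer ({z} : Set G)) F) (χ : G → ℂ) = (m χ : ℂ)) →
      ∑ χ, m χ * (charDegree (χ : G → ℂ) : ℤ) = 0 := by
    intro F hF m hm
    have e := congrFun (classFun_eq_sum (isClassFunction_indFun (Subgroup.centralizer ({z} : Set G)) F)) (1 : G)
    rw [hreg F hF 1 hone', Finset.sum_apply] at e
    simp only [Pi.smul_apply, smul_eq_mul, hm, CharApps.deg_eq] at e
    exact_mod_cast e.symm
  -- the value at `z` of the characters of the principal block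
  have hval : ∀ χ : IrrCharacter G, mX χ ≠ 0 → (χ : G → ℂ) z = (m1 χ : ℂ) +
      (mX χ : ℂ) * (D.X : (Subgroup.centralizer ({z} : Set G)) → ℂ) 1 + (mY χ : ℂ) * (D.Y : (Subgroup.centralizer ({z} : Set G)) → ℂ) 1 := by
    intro χ hne
    set hfun : (Subgroup.centralizer ({z} : Set G)) → ℂ := fun c => (χ : G → ℂ) (z * (c : G)) with hhfun
    set θ : (Subgroup.centralizer ({z} : Set G)) → ℂ := fun c =>
      if twoPart c = 1 then hfun c else if twoPart c = zC then (χ : G → ℂ) c else 0 with hθ
    have hcl1 : IsClassFunction (Subgroup.centralizer ({z} : Set G)) hfun := Blocks.isClassFunction_mul_left (isClassFunction_irr χ)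
    have hθev : ∀ c, θ (zC * c) = θ c := by
      intro c
      rcases hK.cases_twoPart c with x | x | x
      · have e2 : twoPart (zC * c) = zC := by rw [(hK.parts_z_mul c).1, x, mul_one]
        simp only [hθ, hhfun]
        rw [if_pos x, if_neg (show ¬ twoPart (zC * c) = 1 by rw [e2]; exact invol_ne_one hK.invol), if_pos e2]
        rfl
      · have e2 : twoPart (zC * c) = 1 := by rw [(hK.parts_z_mul c).1, x, hzC, hK.zz]
        simp only [hθ, hhfun]
        rw [if_pos e2, if_neg (show ¬ twoPart c = 1 by rw [x]; exact invol_ne_one hK.invol), if_pos x, Subgroup.coe_mul, ← mul_assoc,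
          show z * (zC : G) = 1 from invol_mul_self h.iso.1, one_mul]
      · have e2 : orderOf (twoPart (zC * c)) = 4 := (hK.four_z_mul c).2 x
        have ne1 : ∀ d : (Subgroup.centralizer ({z} : Set G)), orderOf (twoPart d) = 4 → twoPart d ≠ 1 ∧ twoPart d ≠ zC :=
          fun d hd => ⟨fun q => by rw [q, orderOf_one] at hd; omega,
            fun q => by rw [q, hK.invol] at hd; omega⟩
        simp [hθ, ne1 c x, ne1 _ e2]
    have hθcl : IsClassFunction (Subgroup.centralizer ({z} : Set G)) θ := fun c d => by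
      have e1 : d * twoPart c * d⁻¹ = 1 ↔ twoPart c = 1 := by rw [mul_inv_eq_one, mul_eq_left]
      have e2 : d * twoPart c * d⁻¹ = zC ↔ twoPart c = zC := by
        rw [mul_inv_eq_iff_eq_mul, (hK.comm d).eq, mul_left_cancel_iff]
      have e3 : (χ : G → ℂ) ((d * c * d⁻¹ : (Subgroup.centralizer ({z} : Set G))) : G) = (χ : G → ℂ) c := by
        simpa using isClassFunction_irr χ (c : G) d
      by_cases a : twoPart c = 1
      · simp only [hθ, twoPart_conj]
        rw [if_pos (e1.2 a), if_pos a, hcl1 c d]
      · by_cases b : twoPart c = zC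
        · simp only [hθ, twoPart_conj]
          rw [if_neg (fun q => a (e1.1 q)), if_pos (e2.2 b), if_neg a, if_pos b, e3]
        · simp only [hθ, twoPart_conj]
          rw [if_neg (fun q => a (e1.1 q)), if_neg (fun q => b (e2.1 q)), if_neg a, if_neg b]
    have hθreg : ∀ c : (Subgroup.centralizer ({z} : Set G)), ¬ 2 ∣ orderOf c → θ c = hfun c := fun c hc => by
      simp [hθ, twoPart_of_regular hc]
    -- the block parts agree on regular elements
    have hpart : ∀ y : (Subgroup.centralizer ({z} : Set G)), ¬ 2 ∣ orderOf y →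
        blockPart (principalBlock M (Subgroup.centralizer ({z} : Set G))) θ y = blockPart (principalBlock M G) (χ : G → ℂ) (z * y) := by
      intro y hy
      rw [Blocks.blockPart_principalBlock_centralizer hM (isClassFunction_irr χ)
        ⟨1, by rw [h.iso.1, pow_one]⟩ hy, Blocks.blockPart_eq_sum _ hθcl,
        Blocks.blockPart_eq_sum _ hcl1, ← sub_eq_zero, ← Finset.sum_sub_distrib]
      have hd : IsClassFunction (Subgroup.centralizer ({z} : Set G)) (θ - hfun) := isClassFunction_sub hθcl hcl1
      have h0 := Blocks.blockPart_eq_zero_of_regular Nat.prime_two hM.2.2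
        (Blocks.isPBlock_principalBlock M) hd
        (fun c hc => by rw [Pi.sub_apply, hθreg c hc, sub_self]) hy
      rw [Blocks.blockPart_eq_sum _ hd] at h0
      rw [← h0]
      exact Finset.sum_congr rfl fun c _ => by rw [Pi.sub_apply]; ring
    have hk : ∀ (P : (Subgroup.centralizer ({z} : Set G)) → ℂ), (∀ g, P (zC * g) = P g) →
        (∀ g, orderOf (twoPart g) = 4 → P g = ((0 : ℤ) : ℂ)) →
        classInner θ P = classInner (fun c : (Subgroup.centralizer ({z} : Set G)) => (χ : G → ℂ) c) (Q8Hyp.lift zC P) := by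
      intro P hPz hP4
      rw [inner_def, inner_def, hK.sum_eq, hK.sum_eq]
      congr 2
      · refine Finset.sum_congr rfl fun w hw => ?_
        simp only [Finset.mem_filter, Finset.mem_univ, true_and] at hw
        have e2 : twoPart (zC * w) = zC := by rw [(hK.parts_z_mul w).1, hw, mul_one]
        rw [Q8Hyp.lift_one hw, hK.lift_z e2, hθev, hPz,
          show θ w = (χ : G → ℂ) ((zC * w : (Subgroup.centralizer ({z} : Set G))) : G) by simp [hθ, hhfun, hw, hzC], map_mul,
          map_ofNat, map_zero]
        ring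
      · refine Finset.sum_congr rfl fun g hg => ?_
        simp only [Finset.mem_filter, Finset.mem_univ, true_and] at hg
        rw [hK.lift_four hg, hP4 g hg, Int.cast_zero, map_zero, mul_zero, mul_zero]
    have hconv : ∀ (F : (Subgroup.centralizer ({z} : Set G)) → ℂ) (m : IrrCharacter G → ℤ),
        (∀ χ : IrrCharacter G, classInner (indFun (Subgroup.centralizer ({z} : Set G)) F) (χ : G → ℂ) = (m χ : ℂ)) →
        classInner (fun c : (Subgroup.centralizer ({z} : Set G)) => (χ : G → ℂ) c) F = (m χ : ℂ) := by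
      intro F m hm
      rw [← inner_conj, ← hres, hm, map_intCast]
    have k1 := hk D1 ev1 f1
    have kX := hk DX evX fX
    have kY := hk DY evY fY
    rw [← hF1, hconv F1 m1 hm1, hD1, Chars.inner_add_right] at k1
    rw [← hFX, hconv FX mX hmX, hDX, Chars.inner_add_right] at kX
    rw [← hFY, hconv FY mY hmY, hDY, Chars.inner_add_right, Chars.inner_smul_right, map_intCast] at kY
    -- `χ` lies in the principal block
    have hB : χ ∈ principalBlock M G := by
      by_contra hnot
      apply hne
      set E : (Subgroup.centralizer ({z} : Set G)) → ℂ := fun g => classInner θ (principal (Subgroup.centralizer ({z} : Set G)) : (Subgroup.centralizer ({z} : Set G)) → ℂ) +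
        classInner θ (D.X : (Subgroup.centralizer ({z} : Set G)) → ℂ) * (D.X : (Subgroup.centralizer ({z} : Set G)) → ℂ) g + classInner θ (D.Y : (Subgroup.centralizer ({z} : Set G)) → ℂ) * (D.Y : (Subgroup.centralizer ({z} : Set G)) → ℂ) g +
        classInner θ (D.Z : (Subgroup.centralizer ({z} : Set G)) → ℂ) * (D.Z : (Subgroup.centralizer ({z} : Set G)) → ℂ) g with hE
      have hz0 : ∀ g : G, blockPart (principalBlock M G) (χ : G → ℂ) g = 0 := fun g => by
        rw [Blocks.blockPart_eq_sum _ (isClassFunction_irr χ), Blocks.sum_mul_blockCoeff, if_neg hnot]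
      have hE0 : ∀ g, twoPart g = 1 → E g = 0 := fun g hg => by
        have hy : ¬ 2 ∣ orderOf g := (Q8Hyp.regular_iff g).2 hg
        rw [hE]; beta_reduce
        rw [← D.expand θ hθev g, hpart g hy, hz0]
      have hEev : ∀ g, E (zC * g) = E g := fun g => by simp [hE, D.evenX, D.evenY, D.evenZ]
      have e0 : classInner E DX = 0 := by
        rw [inner_def, hK.sum_eq, Finset.sum_eq_zero, Finset.sum_eq_zero, add_zero, mul_zero]
        · intro g hg
          rw [fX g (Finset.mem_filter.1 hg).2, Int.cast_zero, map_zero, mul_zero]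
        · intro w hw
          have hw' : twoPart w = 1 := by simpa using hw
          rw [hEev, hE0 w hw', zero_mul, zero_mul, add_zero]
      have hEexp : E = classInner θ (principal (Subgroup.centralizer ({z} : Set G)) : (Subgroup.centralizer ({z} : Set G)) → ℂ) • (principal (Subgroup.centralizer ({z} : Set G)) : (Subgroup.centralizer ({z} : Set G)) → ℂ) +
          classInner θ (D.X : (Subgroup.centralizer ({z} : Set G)) → ℂ) • (D.X : (Subgroup.centralizer ({z} : Set G)) → ℂ) + classInner θ (D.Y : (Subgroup.centralizer ({z} : Set G)) → ℂ) • (D.Y : (Subgroup.centralizer ({z} : Set G)) → ℂ) +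
          classInner θ (D.Z : (Subgroup.centralizer ({z} : Set G)) → ℂ) • (D.Z : (Subgroup.centralizer ({z} : Set G)) → ℂ) := by
        funext g; simp [hE, principal_apply]
      rw [hEexp, hDX] at e0
      simp only [Chars.inner_add_left, Chars.inner_add_right, Chars.inner_smul_left, inner_irr_self, oX, oZ, o2,
        o3, o4, o5, o6, mul_zero, mul_one, add_zero, zero_add] at e0
      have : (mX χ : ℂ) = 0 := by linear_combination e0 - kX
      exact_mod_cast this
    have h11' : ¬ 2 ∣ orderOf (1 : (Subgroup.centralizer ({z} : Set G))) := by rw [orderOf_one]; decide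
    have e := hpart 1 h11'
    rw [Blocks.blockPart_irr_of_mem hB, Subgroup.coe_one, mul_one,
      D.expand θ hθev 1, D.regZ 1 h1reg] at e
    rw [← e]
    linear_combination k1 + (D.X : (Subgroup.centralizer ({z} : Set G)) → ℂ) 1 * kX + (D.Y : (Subgroup.centralizer ({z} : Set G)) → ℂ) 1 * kY
  -- the two constituents
  have hnorm : ∑ χ, t χ * t χ = 3 :=
    hpair FT FT gFT gFT vFT vFT t t ht ht 3 (by rw [iTT]; norm_num)
  have htgen : IsGeneralizedCharacter G (indFun (Subgroup.centralizer ({z} : Set G)) FT) := isGeneralized_indFun (Subgroup.centralizer ({z} : Set G)) gFT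
  obtain ⟨A, B, p, q, hA1, hB1, hAB, hp, hq, hpA, hqB, hrest, -⟩ :=
    exists_pair_of_norm_three htgen (by rw [ht, hto]; norm_num) (by
      rw [inner_indFun_TI TI (Subgroup.centralizer ({z} : Set G)) hTI (isClassFunction_of_isGeneralized gFT) (hsupp FT vFT)
        (hsupp FT vFT) (vFT 1 h1reg), iTT])
  have htA : t A = p := by have := ht A; rw [hpA] at this; exact_mod_cast this.symm
  have htB : t B = q := by have := ht B; rw [hqB] at this; exact_mod_cast this.symm
  have htA2 : t A * t A = 1 := by rw [htA]; rcases hp with x | x <;> rw [x] <;> norm_num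
  have htB2 : t B * t B = 1 := by rw [htB]; rcases hq with x | x <;> rw [x] <;> norm_num
  have htr : ∀ χ, χ ≠ principal G → χ ≠ A → χ ≠ B → t χ = 0 := fun χ a b c => by
    have := hrest χ a b c; rw [ht] at this; exact_mod_cast this
  have htsum : ∀ F : IrrCharacter G → ℂ, ∑ χ, (t χ : ℂ) * F χ =
      F (principal G) + (t A : ℂ) * F A + (t B : ℂ) * F B := fun F => by
    rw [← Finset.sum_subset (Finset.subset_univ {principal G, A, B}) fun i _ hi => by
      simp only [Finset.mem_insert, Finset.mem_singleton, not_or] at hi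
      rw [htr i hi.1 hi.2.1 hi.2.2, Int.cast_zero, zero_mul],
      Finset.sum_insert (by simp [hA1.symm, hB1.symm]), Finset.sum_pair hAB, hto, Int.cast_one]
    ring
  have htf' : ∑ χ, t χ * f χ = 2 := hpair FT Fp gFT gFp vFT vFp t f ht hf 2 (by rw [iTp]; norm_num)
  -- the final step, for either labelling
  have final : ∀ A B : IrrCharacter G, A ≠ principal G → B ≠ principal G → A ≠ B →
      t A * t A = 1 → t B * t B = 1 → (∀ χ, χ ≠ principal G → χ ≠ A → χ ≠ B → t χ = 0) →
      (∀ F : IrrCharacter G → ℂ, ∑ χ, (t χ : ℂ) * F χ =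
        F (principal G) + (t A : ℂ) * F A + (t B : ℂ) * F B) →
      f A = t A → False := by
    intro A B hA1 hB1 hAB hA2 hB2 htr htsum hfA
    rcases q8_arith t f m1 mX mY (fun χ => (charDegree (χ : G → ℂ) : ℤ)) (principal G) A B D.nY
      (by rcases D.nY_cases with x | x <;> rw [x] <;> norm_num) hA1.symm hB1.symm hAB hto hA2 hB2
      htr hfo h1o hXo hYo hrel
      (hpair Fp Fp gFp gFp vFp vFp f f hf hf 4 (by rw [ipp]; norm_num))
      (hpair F1 F1 gF1 gF1 vF1 vF1 m1 m1 hm1 hm1 4 (by rw [i11]; norm_num))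
      (hpair FX FX gFX gFX vFX vFX mX mX hmX hmX 4 (by rw [iXX]; norm_num))
      (hpair FY FY gFY gFY vFY vFY mY mY hmY hmY 4 (by rw [iYY]; norm_num))
      htf' (hpair FT F1 gFT gF1 vFT vF1 t m1 ht hm1 2 (by rw [iT1]; norm_num))
      (hpair FT FX gFT gFX vFT vFX t mX ht hmX 2 (by rw [iTX]; norm_num))
      (hpair FT FY gFT gFY vFT vFY t mY ht hmY 0 (by rw [iTY]; norm_num))
      (hpair Fp F1 gFp gF1 vFp vF1 f m1 hf hm1 0 (by rw [ip1]; norm_num))
      (by simp [charDegree, principal_apply]) (fun χ => by exact_mod_cast CharApps.deg_pos χ)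
      (hdeg Fp vFp f hf) (hdeg F1 vF1 m1 hm1) (hdeg FX vFX mX hmX) hfA with
      ⟨a1, aX, aY, b1, bX, bY⟩ | hdegA
    · have hnA : mX A ≠ 0 := fun hh => by rw [aX] at hh; rw [hh] at hA2; norm_num at hA2
      have hnB : mX B ≠ 0 := fun hh => by rw [bX] at hh; rw [hh] at hB2; norm_num at hB2
      have vA := hval A hnA
      have vB := hval B hnB
      rw [a1, aX, aY, Int.cast_zero] at vA
      rw [b1, bX, bY, Int.cast_zero] at vB
      have e1 := congrFun (classFun_eq_sum (isClassFunction_indFun (Subgroup.centralizer ({z} : Set G)) FT)) (1 : G)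
      rw [hreg FT vFT 1 hone', Finset.sum_apply] at e1
      simp only [Pi.smul_apply, smul_eq_mul, ht, htsum, principal_apply] at e1
      have e2 := h.sum_inner_mul_sq_eq_zero (isClassFunction_indFun (Subgroup.centralizer ({z} : Set G)) FT) (hreg FT vFT)
      simp only [ht, htsum, principal_apply, one_pow, div_one] at e2
      have hda := CharApps.deg_ne_zero A
      have hdb := CharApps.deg_ne_zero B
      have hp2 : (t A : ℂ) * t A = 1 := by exact_mod_cast hA2
      have hq2 : (t B : ℂ) * t B = 1 := by exact_mod_cast hB2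
      apply hA1
      apply h.eq_principal_of_apply_eq
      rw [vA, vB] at e2
      rw [vA]
      generalize (A : G → ℂ) 1 = a at *
      generalize (B : G → ℂ) 1 = b at *
      generalize (D.X : (Subgroup.centralizer ({z} : Set G)) → ℂ) 1 = x at *
      generalize (D.Y : (Subgroup.centralizer ({z} : Set G)) → ℂ) 1 = y at *
      field_simp at e2
      have key : ((t A : ℂ) * x - a) ^ 2 = 0 := by grind
      linear_combination (sq_eq_zero_iff).1 key
    · -- `A` is linear
      obtain ⟨l, hl⟩ := exists_hom_of_degree_one (isCharacter_of_irr A.2)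
        (by rw [CharApps.deg_eq]; exact_mod_cast hdegA)
      apply hA1
      apply h.eq_principal_of_apply_eq
      obtain ⟨s, -, hs⟩ := hK.exists_four
      have hs2 : s * s = zC := by
        rcases hK.cases_two ⟨2, hs.trans rfl⟩ with x | x | ⟨-, x⟩
        · rw [x, orderOf_one] at hs; omega
        · rw [x, hK.invol] at hs; omega
        · exact x
      obtain ⟨d, hd⟩ := isConj_iff.1 (hK.fus s s⁻¹ hs (by rw [orderOf_inv]; exact hs))
      have hl2 : l (s : G) = (l (s : G))⁻¹ := by
        have := congrArg (fun c : (Subgroup.centralizer ({z} : Set G)) => l (c : G)) hd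
        simp only [Subgroup.coe_mul, Subgroup.coe_inv, map_mul, map_inv] at this
        rwa [mul_inv_cancel_comm] at this
      have hlz : l z = 1 := by
        rw [show z = ((s * s : (Subgroup.centralizer ({z} : Set G))) : G) by rw [hs2], Subgroup.coe_mul, map_mul]
        exact mul_eq_one_iff_eq_inv.2 hl2
      rw [hl]
      simp [hlz]
  have sf := sq_add_le f hA1.symm hB1.symm hAB
    (hpair Fp Fp gFp gFp vFp vFp f f hf hf 4 (by rw [ipp]; norm_num))
  have e : f (principal G) + t A * f A + t B * f B = 2 := by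
    rw [← htf', ← Finset.sum_subset (Finset.subset_univ {principal G, A, B}) fun i _ hi => by
      simp only [Finset.mem_insert, Finset.mem_singleton, not_or] at hi
      rw [htr i hi.1 hi.2.1 hi.2.2, zero_mul],
      Finset.sum_insert (by simp [hA1.symm, hB1.symm]), Finset.sum_pair hAB, hto]
    ring
  rw [hfo] at e sf
  have b1 : -1 ≤ f A ∧ f A ≤ 1 := ⟨by nlinarith, by nlinarith⟩
  have b2 : -1 ≤ f B ∧ f B ≤ 1 := ⟨by nlinarith, by nlinarith⟩
  by_cases hcase : f A = t A
  · exact final A B hA1 hB1 hAB htA2 htB2 htr htsum hcase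
  · have hfB : f B = t B := by
      rw [htA] at hcase e; rw [htB] at e ⊢
      rcases hp with x | x <;> rcases hq with y | y <;> rw [x] at hcase e <;> rw [y] at e ⊢ <;> omega
    exact final B A hB1 hA1 hAB.symm htB2 htA2 (fun χ a b c => htr χ a c b)
      (fun F => by rw [htsum F]; ring) hfB

end MinCounterexample

end CfsgLib.Involutions.ZStar
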