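import Cfsg.Agent.Lib.Involutions.ZStar.GenQuat
import Cfsg.Agent.Lib.Involutions.ZStar.Q8

/-!
# Glauberman's Z*-theorem
-/

set_option autoImplicit false
set_option linter.style.haveILetI false

namespace CfsgLib.Involutions.ZStar

open Cfsg

universe u

theorem MinCounterexample.false {G : Type u} [Group G] [Finite G] {z : G}
    (h : MinCounterexample G z) : False := by
  obtain ⟨S, n, hn, hzS, ⟨e⟩⟩ := h.exists_quaternion
  rcases Nat.lt_or_ge n 2 with h2 | h2
  · obtain rfl : n = 1 := by omega
    exact h.false_of_q8 S hzS e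
  · exact h.false_of_quaternion_ge S h2 hzS e

/-- **Glauberman's Z*-theorem**: an isolated involution is central modulo `O(G)`. -/
theorem centralModCore {G : Type u} [Group G] [Finite G] {z : G}
    (hz : IsIsolatedInvolution z) (g : G) : z * g * z⁻¹ * g⁻¹ ∈ oddCore G :=
  centralModCore_of_no_minCounterexample (fun _ _ _ _ h => h.false) G z hz g

/-- With trivial odd core an isolated involution is central. -/
theorem mem_center_of_oddCore_eq_bot {G : Type u} [Group G] [Finite G] {z : G}
    (hz : IsIsolatedInvolution z) (hO : oddCore G = ⊥) : z ∈ Subgroup.center G :=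
  Subgroup.mem_center_iff.2 fun g =>
    (commute_of_centralModCore hO (centralModCore hz) g).eq.symm

/-- The group is `O(G) C(z)`. -/
theorem exists_mul_centralizer {G : Type u} [Group G] [Finite G] {z : G}
    (hz : IsIsolatedInvolution z) (g : G) :
    ∃ a ∈ oddCore G, ∃ c ∈ Subgroup.centralizer ({z} : Set G), g = a * c := by
  obtain ⟨k, hk⟩ := Isolated.exists_zpow_conj hz (v := g * z * g⁻¹) (isConj_iff.2 ⟨g, rfl⟩)
  refine ⟨(z * (g * z * g⁻¹)) ^ k, Subgroup.zpow_mem _ ?_ k,
    ((z * (g * z * g⁻¹)) ^ k)⁻¹ * g, ?_, (mul_inv_cancel_left _ _).symm⟩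
  · have := centralModCore hz g
    rwa [invol_inv hz.1, show z * g * z * g⁻¹ = z * (g * z * g⁻¹) by group] at this
  · generalize (z * (g * z * g⁻¹)) ^ k = d at hk
    rw [Subgroup.mem_centralizer_singleton_iff]
    calc d⁻¹ * g * z = d⁻¹ * (g * z * g⁻¹) * g := by group
      _ = d⁻¹ * (d * z * d⁻¹) * g := by rw [hk]
      _ = z * (d⁻¹ * g) := by group

end CfsgLib.Involutions.ZStar
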