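import Cfsg.Agent.Lib.Involutions.ZStar.Main

/-!
# The Brauer–Suzuki theorem
-/

set_option autoImplicit false
set_option linter.style.haveILetI false

namespace CfsgLib.Involutions.ZStar

open Cfsg

universe u

theorem quaternion_mul_self_eq_one {m : ℕ} [NeZero m] {x : QuaternionGroup m} (h : x * x = 1) :
    x = 1 ∨ x = .a (m : ZMod (2 * m)) := by
  cases x with
  | a k =>
    rw [QuaternionGroup.a_mul_a, QuaternionGroup.one_def] at h
    have h2 : k + k = 0 := QuaternionGroup.a.inj h
    rw [← two_mul, ← ZMod.natCast_zmod_val k] at h2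
    rw [← Nat.cast_ofNat (R := ZMod (2 * m)), ← Nat.cast_mul, ZMod.natCast_eq_zero_iff] at h2
    obtain ⟨c, hc⟩ := (Nat.mul_dvd_mul_iff_left two_pos).1 h2
    have hlt := ZMod.val_lt k
    have hc2 : c < 2 := Nat.lt_of_mul_lt_mul_left (a := m) (by rw [← hc]; omega)
    rcases c with _ | _ | c
    · left
      rw [← ZMod.natCast_zmod_val k, hc, mul_zero, Nat.cast_zero]; rfl
    · right
      rw [← ZMod.natCast_zmod_val k, hc, zero_add, mul_one]
    · omega
  | xa k =>
    have h4 := QuaternionGroup.orderOf_xa k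
    have h2 : orderOf (QuaternionGroup.xa k) ∣ 2 := orderOf_dvd_of_pow_eq_one (by rw [sq]; exact h)
    rw [h4] at h2
    norm_num at h2

theorem quaternion_comm {m : ℕ} [NeZero m] (hm : 2 ≤ m) {x : QuaternionGroup m}
    (h : ∀ y, x * y = y * x) : x * x = 1 := by
  cases x with
  | a k =>
    have h1 := h (.xa 0)
    rw [QuaternionGroup.a_mul_xa, QuaternionGroup.xa_mul_a] at h1
    have h2 : (0 : ZMod (2 * m)) - k = 0 + k := QuaternionGroup.xa.inj h1
    rw [QuaternionGroup.a_mul_a, QuaternionGroup.one_def]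
    congr 1
    linear_combination -h2
  | xa k =>
    exfalso
    have h1 := h (.a 1)
    rw [QuaternionGroup.xa_mul_a, QuaternionGroup.a_mul_xa] at h1
    have h2 : k + 1 = k - 1 := QuaternionGroup.xa.inj h1
    have h3 : ((2 : ℕ) : ZMod (2 * m)) = 0 := by push_cast; linear_combination h2
    rw [ZMod.natCast_eq_zero_iff] at h3
    have := Nat.le_of_dvd two_pos h3
    omega

/-- **Brauer–Suzuki.** -/
theorem card_center_eq_two {G : Type u} [Group G] [Finite G] (S : Sylow 2 G) (n : ℕ)
    (e : (S : Subgroup G) ≃* QuaternionGroup (2 ^ (n + 1))) (hO : oddCore G = ⊥) :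
    Nat.card (Subgroup.center G) = 2 := by
  haveI : Fact (Nat.Prime 2) := ⟨Nat.prime_two⟩
  have hm : 2 ≤ 2 ^ (n + 1) := by
    calc 2 = 2 ^ 1 := rfl
      _ ≤ _ := Nat.pow_le_pow_right two_pos (by omega)
  set zS : (S : Subgroup G) := e.symm (.a ((2 ^ (n + 1) : ℕ) : ZMod (2 * 2 ^ (n + 1)))) with hzS
  have hsq : ∀ s : (S : Subgroup G), s * s = 1 → s = 1 ∨ s = zS := fun s hs => by
    rcases quaternion_mul_self_eq_one (x := e s) (by rw [← map_mul, hs, map_one]) with h | h
    · exact Or.inl (by rwa [MulEquiv.map_eq_one_iff] at h)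
    · exact Or.inr (by rw [hzS, ← h, MulEquiv.symm_apply_apply])
  have hz2 : orderOf (zS : G) = 2 := by
    rw [Subgroup.orderOf_coe, hzS, MulEquiv.orderOf_eq, invol_iff]
    refine ⟨?_, fun h => ?_⟩
    · rw [QuaternionGroup.a_mul_a, ← Nat.cast_add, ← two_mul, ZMod.natCast_self]; rfl
    · rw [QuaternionGroup.one_def] at h
      have h' := QuaternionGroup.a.inj h
      rw [ZMod.natCast_eq_zero_iff] at h'
      have := Nat.le_of_dvd (by omega) h'
      omega
  have hiso : IsIsolatedInvolution (zS : G) := by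
    refine ⟨hz2, fun g hc => ?_⟩
    obtain ⟨c, h1, h2⟩ := exists_conj_mem_sylow S hz2 (conj_invol g hz2) hc
    have key : ∀ y : G, orderOf y = 2 → ∀ hy : y ∈ (S : Subgroup G), y = (zS : G) := by
      intro y hy2 hy
      rcases hsq ⟨y, hy⟩ (Subtype.ext (invol_mul_self hy2)) with h | h
      · exact absurd (congrArg Subtype.val h) (invol_ne_one hy2)
      · exact congrArg Subtype.val h
    have e1 := key _ (conj_invol c hz2) h1
    have e2 := key _ (conj_invol c (conj_invol g hz2)) h2
    exact mul_left_cancel (mul_right_cancel (e2.trans e1.symm))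
  have hzc : (zS : G) ∈ Subgroup.center G := mem_center_of_oddCore_eq_bot hiso hO
  have hp : IsPGroup 2 (Subgroup.center G) := by
    intro x
    obtain ⟨k, m, hm2, hk⟩ :=
      Nat.exists_eq_pow_mul_and_not_dvd (orderOf_pos (x : G)).ne' 2 (by norm_num)
    refine ⟨k, Subtype.ext ?_⟩
    show (x : G) ^ 2 ^ k = 1
    set y := (x : G) ^ 2 ^ k
    have hyc : y ∈ Subgroup.center G := pow_mem x.2 _
    haveI : (Subgroup.zpowers y).Normal := ⟨fun w hw g => by
      rw [Subgroup.mem_center_iff.1 ((Subgroup.zpowers_le.2 hyc) hw) g, mul_inv_cancel_right]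
      exact hw⟩
    have hodd : Odd (Nat.card (Subgroup.zpowers y)) := by
      refine Odd.of_dvd_nat (Nat.odd_iff.2 (Nat.two_dvd_ne_zero.1 hm2)) ?_
      rw [Nat.card_zpowers]
      exact orderOf_dvd_of_pow_eq_one (by rw [← pow_mul, ← hk, pow_orderOf_eq_one])
    have h0 := Base.le_oddCore (N := Subgroup.zpowers y) hodd
    rw [hO, le_bot_iff, Subgroup.zpowers_eq_bot] at h0
    exact h0
  have hle : Subgroup.center G = Subgroup.zpowers (zS : G) := by
    refine le_antisymm (fun x hx => ?_) (Subgroup.zpowers_le.2 hzc)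
    have hxS : x ∈ (S : Subgroup G) := hp.le_sylow_of_normal S hx
    have hcomm : ∀ y, e ⟨x, hxS⟩ * y = y * e ⟨x, hxS⟩ := fun y => by
      obtain ⟨w, rfl⟩ := e.surjective y
      rw [← map_mul, ← map_mul]
      exact congrArg e (Subtype.ext (Subgroup.mem_center_iff.1 hx (w : G)).symm)
    have h1 := quaternion_comm hm hcomm
    rw [← map_mul, MulEquiv.map_eq_one_iff] at h1
    rcases hsq ⟨x, hxS⟩ h1 with h | h
    · rw [show x = 1 from congrArg Subtype.val h]; exact one_mem _
    · rw [show x = (zS : G) from congrArg Subtype.val h]; exact Subgroup.mem_zpowers _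
  rw [hle, Nat.card_zpowers, hz2]

end CfsgLib.Involutions.ZStar
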