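import Cfsg.Agent.Lib.Involutions.ZStar.Q8Basic
import Cfsg.Agent.Lib.Blocks.PrincipalBlock
import Cfsg.Agent.Lib.CharApps.PrincipalRational

/-!
# The principal `2`-block of a group with central involution and quaternion Sylow subgroup
-/

set_option autoImplicit false
set_option linter.style.haveILetI false

namespace CfsgLib.Involutions.ZStar

open Cfsg CfsgLib.Chars CfsgLib.BlockOrth
open scoped ComplexConjugate

universe u

namespace Q8Hyp

variable {K : Type u} [Group K] [Fintype K] [Fact (Nat.Prime 2)] {z : K} {S : Sylow 2 K}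

theorem inner_even_odd (h : Q8Hyp K z S) {F H : K → ℂ} (hF : ∀ g, F (z * g) = F g)
    (hH : ∀ g, H (z * g) = -H g) : classInner F H = 0 := by
  have e := (Equiv.sum_comp (Equiv.mulLeft z) (fun g => F g * conj (H g))).symm
  simp only [Equiv.coe_mulLeft, hF, hH, map_neg, mul_neg, Finset.sum_neg_distrib] at e
  rw [inner_def, CharZero.eq_neg_self_iff.1 e, mul_zero]

open Classical in
theorem inner_phi (h : Q8Hyp K z S) (χ : K → ℂ) (c : ℂ)
    (hc : ∀ g, orderOf (twoPart g) = 4 → χ g = c) : classInner (phi (K := K)) χ = conj c := by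
  rw [inner_def, h.sum_eq]
  rw [Finset.sum_eq_zero (s := Finset.univ.filter (fun w : K => twoPart w = 1)) fun w hw => by
      simp only [Finset.mem_filter, Finset.mem_univ, true_and] at hw
      rw [phi_ne (by rw [hw, orderOf_one]; omega),
        phi_ne (by rw [(h.parts_z_mul w).1, hw, mul_one, h.invol]; omega)]
      ring, zero_add,
    Finset.sum_congr rfl (g := fun _ => 4 * conj c) fun g hg => by
      simp only [Finset.mem_filter, Finset.mem_univ, true_and] at hg
      rw [phi_four hg, hc g hg], Finset.sum_const, nsmul_eq_mul, ← mul_assoc, ← mul_assoc]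
  rw [mul_comm ((Nat.card K : ℂ)⁻¹ * _) 4, ← mul_assoc, mul_comm (4 : ℂ) (Nat.card K : ℂ)⁻¹,
    mul_assoc (Nat.card K : ℂ)⁻¹, h.card_four_filter, inv_mul_cancel₀ (card_ne_zero K), one_mul]

theorem inner_phi_one (h : Q8Hyp K z S) :
    classInner (phi (K := K)) (principal K : K → ℂ) = 1 := by
  rw [h.inner_phi _ 1 fun g _ => principal_apply g, map_one]

theorem inner_phi_self (h : Q8Hyp K z S) : classInner (phi (K := K)) (phi (K := K)) = 4 := by
  rw [h.inner_phi _ 4 fun g hg => phi_four hg, map_ofNat]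

theorem phi_z_mul (h : Q8Hyp K z S) (g : K) : phi (z * g) = phi g := by
  by_cases h1 : orderOf (twoPart g) = 4
  · rw [phi_four h1, phi_four ((h.four_z_mul g).2 h1)]
  · rw [phi_ne h1, phi_ne fun e => h1 ((h.four_z_mul g).1 e)]

variable {M : Ideal AlgInt}

/-- Principal block characters are constant on the elements whose `2`-part has order four. -/
theorem block_apply_four (h : Q8Hyp K z S) (hM : IsPModular 2 M) {χ : IrrCharacter K}
    (hχ : χ ∈ principalBlock M K) {s g : K} (hs : orderOf s = 4) (hg : orderOf (twoPart g) = 4) :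
    (χ : K → ℂ) g = (χ : K → ℂ) s := by
  haveI := Blocks.isPrime_of_isPModular hM
  obtain ⟨hc, -, hdec⟩ := twoPart_spec g
  set t := twoPart g with ht
  set w := pPrimePart 2 g
  have hwC : w ∈ Subgroup.centralizer ({t} : Set K) :=
    Subgroup.mem_centralizer_singleton_iff.2 hc.eq.symm
  haveI := Fintype.ofFinite (Subgroup.centralizer ({t} : Set K))
  obtain ⟨hnc, -⟩ := h.centralizer_four hg
  obtain ⟨N, hN, hN2, k, hk⟩ := Transfer.hasNormalPComplement_iff_exists.1 hnc
  haveI := hN
  have hwN : (⟨w, hwC⟩ : Subgroup.centralizer ({t} : Set K)) ∈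
      pPrimeCore 2 (Subgroup.centralizer ({t} : Set K)) :=
    Base.le_pPrimeCore_of_not_dvd hN2 (Blocks.index_eq_pow_mem_of_regular (p := 2) hk
      (by rw [← Subgroup.orderOf_coe]; exact not_dvd_orderOf_pPrimePart g))
  have key := Blocks.principalBlock_apply_mul_core hM (u := t) ⟨2, hg.trans rfl⟩ hwN hχ
  rw [show (χ : K → ℂ) g = (χ : K → ℂ) (t * w) by rw [hdec], key]
  exact (isConj_iff_forall_irr _ _).1 (h.fus t s hg hs) χ

open Classical in
theorem sum_block_four (h : Q8Hyp K z S) (hM : IsPModular 2 M) [Fintype (IrrCharacter K)]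
    {s : K} (hs : orderOf s = 4) :
    ∑ χ ∈ Finset.univ.filter (· ∈ principalBlock M K),
      (χ : K → ℂ) s * conj ((χ : K → ℂ) s) = 4 := by
  haveI := Blocks.isPrime_of_isPModular hM
  set C := Subgroup.centralizer ({s} : Set K)
  haveI := Fintype.ofFinite C
  haveI := irrFintype C
  obtain ⟨hnc, P, hP⟩ := h.centralizer_four hs
  obtain ⟨N, hN, hN2, k, hk⟩ := Transfer.hasNormalPComplement_iff_exists.1 hnc
  haveI := hN
  have h1o : ¬ 2 ∣ orderOf (1 : C) := by rw [orderOf_one]; decide
  have e := Blocks.principalBlock_normSum_centralizer hM (z := s) ⟨2, hs.trans rfl⟩ (1 : C) h1o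
  rw [Subgroup.coe_one, mul_one,
    finsum_mem_eq_sum_of_inter_support_eq (t := Finset.univ.filter (· ∈ principalBlock M K)) _
      (by ext; simp)] at e
  rw [e]
  have hb := Blocks.blockCoeff_principalBlock_one hM.2.2 hN2 hk
  rw [blockCoeff, inv_mul_eq_iff_eq_mul₀ (card_ne_zero C)] at hb
  rw [hb]
  have hidx : N.index = 4 := by
    have hN' : N = pResidual 2 C := Transfer.eq_pResidual hN2 ⟨k, hk⟩
    have := (Transfer.isComplement'_pResidual hnc P).index_eq_card
    rw [hN']
    exact (Transfer.isComplement'_pResidual hnc P).symm.index_eq_card.trans hP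
  rw [← N.card_mul_index, hidx]
  push_cast
  field_simp

/-- The four even characters of the principal block. -/
structure Data (K : Type u) [Group K] [Fintype K] (z : K) (M : Ideal AlgInt) where
  X : IrrCharacter K
  Y : IrrCharacter K
  Z : IrrCharacter K
  nY : ℤ
  nY_cases : nY = 1 ∨ nY = -1
  X_ne : X ≠ principal K
  Y_ne : Y ≠ principal K
  Z_ne : Z ≠ principal K
  XY : X ≠ Y
  XZ : X ≠ Z
  YZ : Y ≠ Z
  evenX : ∀ g, (X : K → ℂ) (z * g) = (X : K → ℂ) g
  evenY : ∀ g, (Y : K → ℂ) (z * g) = (Y : K → ℂ) g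
  evenZ : ∀ g, (Z : K → ℂ) (z * g) = (Z : K → ℂ) g
  fourX : ∀ g, orderOf (twoPart g) = 4 → (X : K → ℂ) g = 1
  fourY : ∀ g, orderOf (twoPart g) = 4 → (Y : K → ℂ) g = nY
  fourZ : ∀ g, orderOf (twoPart g) = 4 → (Z : K → ℂ) g = -1
  regZ : ∀ g, twoPart g = 1 →
    (Z : K → ℂ) g = 1 + (X : K → ℂ) g + nY * (Y : K → ℂ) g
  expand : ∀ θ : K → ℂ, (∀ g, θ (z * g) = θ g) → ∀ g,
    blockPart (principalBlock M K) θ g = classInner θ (principal K : K → ℂ) +
      classInner θ (X : K → ℂ) * (X : K → ℂ) g + classInner θ (Y : K → ℂ) * (Y : K → ℂ) g +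
      classInner θ (Z : K → ℂ) * (Z : K → ℂ) g

theorem nonempty_data (h : Q8Hyp K z S) (hM : IsPModular 2 M) : Nonempty (Data K z M) := by
  classical
  haveI := Blocks.isPrime_of_isPModular hM
  haveI := irrFintype K
  obtain ⟨s, -, hs⟩ := h.exists_four
  obtain ⟨hcl, hint⟩ := isGeneralized_iff_inner.1 h.isGeneralized_phi
  choose n hn using hint
  have hblock : ∀ χ ∈ principalBlock M K, (χ : K → ℂ) s = (n χ : ℂ) := fun χ hχ => by
    have e := h.inner_phi (χ : K → ℂ) _ fun g hg => h.block_apply_four hM hχ hs hg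
    rw [hn χ] at e
    have e' := congrArg conj e
    rw [Complex.conj_conj, map_intCast] at e'
    exact e'.symm
  have hall : ∑ χ : IrrCharacter K, n χ ^ 2 = 4 := by
    have e := inner_eq_sum hcl (phi (K := K))
    rw [h.inner_phi_self] at e
    simp only [hn, map_intCast] at e
    have e' : ((∑ χ : IrrCharacter K, n χ ^ 2 : ℤ) : ℂ) = 4 := by
      push_cast; rw [e]; exact Finset.sum_congr rfl fun χ _ => sq _
    exact_mod_cast e'
  have hb4 : ∑ χ ∈ Finset.univ.filter (· ∈ principalBlock M K), n χ ^ 2 = 4 := by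
    have e := h.sum_block_four hM hs
    rw [Finset.sum_congr rfl (g := fun χ => ((n χ ^ 2 : ℤ) : ℂ)) fun χ hχ => by
      rw [hblock χ (Finset.mem_filter.1 hχ).2, map_intCast]; push_cast; ring] at e
    exact_mod_cast e
  have hout : ∀ χ, χ ∉ principalBlock M K → n χ = 0 := fun χ hχ => by
    have e := Finset.sum_filter_add_sum_filter_not Finset.univ (· ∈ principalBlock M K)
      (fun χ => n χ ^ 2)
    rw [hall, hb4] at e
    have e' : ∑ χ ∈ Finset.univ.filter (fun χ => ¬ χ ∈ principalBlock M K), n χ ^ 2 = 0 := by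
      linarith
    exact pow_eq_zero_iff two_ne_zero |>.1 ((Finset.sum_eq_zero_iff_of_nonneg
      fun x _ => sq_nonneg (n x)).1 e' χ (Finset.mem_filter.2 ⟨Finset.mem_univ _, hχ⟩))
  have hfour : ∀ χ : IrrCharacter K, n χ ≠ 0 → ∀ g, orderOf (twoPart g) = 4 →
      (χ : K → ℂ) g = (n χ : ℂ) := fun χ hne g hg => by
    have hχ : χ ∈ principalBlock M K := by by_contra hx; exact hne (hout χ hx)
    rw [h.block_apply_four hM hχ hs hg, hblock χ hχ]
  have heven : ∀ χ : IrrCharacter K, n χ ≠ 0 → ∀ g, (χ : K → ℂ) (z * g) = (χ : K → ℂ) g :=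
    fun χ hne => by
      rcases irr_central_invol h.central h.zz χ with e | e
      · exact e
      · exfalso
        apply hne
        have := h.inner_even_odd h.phi_z_mul e
        rw [hn χ] at this
        exact_mod_cast this
  have h1 : n (principal K) = 1 := by
    have := hn (principal K)
    rw [h.inner_phi_one] at this
    exact_mod_cast this.symm
  have h3 : ∑ χ ∈ Finset.univ.erase (principal K), n χ ^ 2 = 3 := by
    rw [← Finset.add_sum_erase _ _ (Finset.mem_univ (principal K)), h1] at hall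
    linarith
  set T := (Finset.univ.erase (principal K)).filter (fun χ => n χ ≠ 0) with hT
  have hT3 : ∑ χ ∈ T, n χ ^ 2 = 3 := by
    rw [hT, Finset.sum_filter_of_ne]
    · exact h3
    · intro χ _ hx hz; exact hx (by rw [hz]; norm_num)
  have hsmall : ∀ χ ∈ T, n χ = 1 ∨ n χ = -1 := fun χ hχ => by
    have hle : n χ ^ 2 ≤ 3 := hT3 ▸ Finset.single_le_sum (fun ψ _ => sq_nonneg (n ψ)) hχ
    have a : -1 ≤ n χ := by nlinarith
    have b : n χ ≤ 1 := by nlinarith
    have := (Finset.mem_filter.1 hχ).2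
    omega
  have hcard : T.card = 3 := by
    have : ∑ χ ∈ T, n χ ^ 2 = T.card := by
      rw [Finset.sum_congr rfl (g := fun _ => (1 : ℤ)) fun χ hχ => by
        rcases hsmall χ hχ with e | e <;> rw [e] <;> norm_num]
      simp
    omega
  have hexp : ∀ g, phi g = 1 + ∑ χ ∈ T, (n χ : ℂ) * (χ : K → ℂ) g := by
    intro g
    conv_lhs => rw [classFun_eq_sum hcl]
    rw [Finset.sum_apply, ← Finset.add_sum_erase _ _ (Finset.mem_univ (principal K)), hT]
    simp only [hn, Pi.smul_apply, smul_eq_mul, h1, Int.cast_one, principal_apply, one_mul]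
    refine congrArg (1 + ·) (Finset.sum_filter_of_ne (p := fun χ => n χ ≠ 0) fun χ _ hx hz => hx ?_).symm
    rw [hz, Int.cast_zero, zero_mul]
  have hdeg0 : (1 : ℂ) + ∑ χ ∈ T, (n χ : ℂ) * (χ : K → ℂ) 1 = 0 := by
    rw [← hexp, phi_ne (by rw [twoPart_of_regular (by rw [orderOf_one]; decide), orderOf_one]; omega)]
  have hsum_pos : 3 ≤ ∑ χ ∈ T, charDegree (χ : K → ℂ) := by
    calc 3 = ∑ _χ ∈ T, 1 := by simp [hcard]
      _ ≤ _ := Finset.sum_le_sum fun χ _ => CharApps.deg_pos χ
  obtain ⟨X, hXT, hX⟩ : ∃ χ ∈ T, n χ = 1 := by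
    by_contra hno
    push Not at hno
    have e : ∀ χ ∈ T, (n χ : ℂ) * (χ : K → ℂ) 1 = -((charDegree (χ : K → ℂ) : ℕ) : ℂ) :=
      fun χ hχ => by
        rw [(hsmall χ hχ).resolve_left (hno χ hχ), ← CharApps.deg_eq]; push_cast; ring
    rw [Finset.sum_congr rfl e,
      Finset.sum_neg_distrib, ← sub_eq_add_neg, sub_eq_zero, ← Nat.cast_sum] at hdeg0
    have : (1 : ℕ) = ∑ χ ∈ T, charDegree (χ : K → ℂ) := by exact_mod_cast hdeg0
    omega
  obtain ⟨Z, hZT, hZ⟩ : ∃ χ ∈ T, n χ = -1 := by
    by_contra hno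
    push Not at hno
    have e : ∀ χ ∈ T, (n χ : ℂ) * (χ : K → ℂ) 1 = ((charDegree (χ : K → ℂ) : ℕ) : ℂ) :=
      fun χ hχ => by
        rw [(hsmall χ hχ).resolve_right (hno χ hχ), ← CharApps.deg_eq]; push_cast; ring
    rw [Finset.sum_congr rfl e, ← Nat.cast_sum] at hdeg0
    have : (1 : ℕ) + ∑ χ ∈ T, charDegree (χ : K → ℂ) = 0 := by exact_mod_cast hdeg0
    omega
  have hXZ : X ≠ Z := fun e => by rw [e, hZ] at hX; norm_num at hX
  obtain ⟨Y, hY⟩ := Finset.card_eq_one.1 (show ((T.erase X).erase Z).card = 1 by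
    rw [Finset.card_erase_of_mem (Finset.mem_erase.2 ⟨hXZ.symm, hZT⟩),
      Finset.card_erase_of_mem hXT, hcard])
  have hYm : Y ∈ (T.erase X).erase Z := by simp [hY]
  have hYT : Y ∈ T := Finset.mem_of_mem_erase (Finset.mem_of_mem_erase hYm)
  have hYZ := Finset.ne_of_mem_erase hYm
  have hYX := Finset.ne_of_mem_erase (Finset.mem_of_mem_erase hYm)
  have hne : ∀ χ ∈ T, n χ ≠ 0 := fun χ hχ => (Finset.mem_filter.1 hχ).2
  have hnp : ∀ χ ∈ T, χ ≠ principal K := fun χ hχ =>
    Finset.ne_of_mem_erase (Finset.mem_filter.1 hχ).1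
  have hrest : ∀ χ, χ ≠ principal K → χ ≠ X → χ ≠ Y → χ ≠ Z → n χ = 0 := by
    intro χ a b c d
    by_contra e
    have : χ ∈ (T.erase X).erase Z := Finset.mem_erase.2 ⟨d, Finset.mem_erase.2
      ⟨b, Finset.mem_filter.2 ⟨Finset.mem_erase.2 ⟨a, Finset.mem_univ _⟩, e⟩⟩⟩
    rw [hY, Finset.mem_singleton] at this
    exact c this
  have hTsum : ∀ F : IrrCharacter K → ℂ, ∑ χ ∈ T, F χ = F X + F Z + F Y := fun F => by
    rw [← Finset.add_sum_erase _ _ hXT,
      ← Finset.add_sum_erase _ _ (Finset.mem_erase.2 ⟨hXZ.symm, hZT⟩), hY, Finset.sum_singleton]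
    ring
  refine ⟨
    { X := X, Y := Y, Z := Z, nY := n Y
      nY_cases := hsmall Y hYT
      X_ne := hnp X hXT, Y_ne := hnp Y hYT, Z_ne := hnp Z hZT
      XY := hYX.symm, XZ := hXZ, YZ := hYZ
      evenX := heven X (hne X hXT), evenY := heven Y (hne Y hYT), evenZ := heven Z (hne Z hZT)
      fourX := fun g hg => by rw [hfour X (hne X hXT) g hg, hX, Int.cast_one]
      fourY := fun g hg => hfour Y (hne Y hYT) g hg
      fourZ := fun g hg => by rw [hfour Z (hne Z hZT) g hg, hZ]; simp
      regZ := fun g hg => ?_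
      expand := fun θ hθ g => ?_ }⟩
  · have e := hexp g
    rw [phi_ne (by rw [hg, orderOf_one]; omega), hTsum, hX, hZ] at e
    push_cast at e
    linear_combination e
  · have hmem : ∀ χ ∈ ({principal K, X, Y, Z} : Finset (IrrCharacter K)),
        χ ∈ principalBlock M K := by
      intro χ hχ
      by_contra hx
      have h0 := hout χ hx
      simp only [Finset.mem_insert, Finset.mem_singleton] at hχ
      rcases hχ with rfl | rfl | rfl | rfl
      · omega
      · exact hne χ hXT h0
      · exact hne χ hYT h0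
      · exact hne χ hZT h0
    rw [Blocks.blockPart_apply_eq_sum,
      ← Finset.sum_subset (s₁ := ({principal K, X, Y, Z} : Finset (IrrCharacter K)))
        (fun χ hχ => Finset.mem_filter.2 ⟨Finset.mem_univ _, hmem χ hχ⟩) fun χ hχ hn4 => ?_]
    · rw [Finset.sum_insert (by simp [(hnp X hXT).symm, (hnp Y hYT).symm, (hnp Z hZT).symm]),
        Finset.sum_insert (by simp [hYX.symm, hXZ]), Finset.sum_pair hYZ, principal_apply]
      ring
    · simp only [Finset.mem_insert, Finset.mem_singleton, not_or] at hn4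
      obtain ⟨a, b, c, d⟩ := hn4
      have hχB := (Finset.mem_filter.1 hχ).2
      have h0 := hrest χ a b c d
      rcases irr_central_invol h.central h.zz χ with e | e
      · exfalso
        have hv : ∀ g, orderOf (twoPart g) = 4 → (χ : K → ℂ) g = 0 := fun g hg => by
          rw [h.block_apply_four hM hχB hs hg, hblock χ hχB, h0, Int.cast_zero]
        apply (CharApps.mem_principalBlock_iff_regularSum hM.2.2 χ).1 hχB
        have hi := inner_irr_ne a
        rw [inner_def, inv_mul_eq_iff_eq_mul₀ (card_ne_zero K), mul_zero, h.sum_eq] at hi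
        simp only [principal_apply, map_one, mul_one, e] at hi
        rw [Finset.sum_eq_zero (s := Finset.univ.filter (fun g : K => orderOf (twoPart g) = 4))
          (fun g hg => hv g (Finset.mem_filter.1 hg).2), add_zero, Finset.sum_add_distrib,
          ← two_mul, mul_eq_zero, or_iff_right (by norm_num)] at hi
        rw [← hi]
        refine Finset.sum_congr (Finset.ext fun g => ?_) fun g _ => rfl
        simp only [Finset.mem_filter, Finset.mem_univ, true_and]
        exact regular_iff g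
      · rw [h.inner_even_odd hθ e, zero_mul]

end Q8Hyp

end CfsgLib.Involutions.ZStar
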