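import Cfsg.Agent.Lib.Involutions.ZStar.Main

/-!
# Sylow subgroups invariant under an isolated involution
-/

set_option autoImplicit false
set_option linter.style.haveILetI false

namespace CfsgLib.Involutions.ZStar

open Cfsg
open scoped Pointwise

universe u

theorem mem_normalizer_of_smul_eq {G : Type*} [Group G] {p : ℕ} {P : Sylow p G} {g : G}
    (h : g • P = P) : g ∈ Subgroup.normalizer ((P : Subgroup G) : Set G) :=
  Sylow.smul_eq_iff_mem_normalizer.1 h

theorem index_eq_relIndex_of_sup_eq_top {G : Type*} [Group G] [Finite G] {H K : Subgroup G}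
    [K.Normal] (h : H ⊔ K = ⊤) : H.index = H.relIndex K := by
  have h1 : K.index = (H ⊓ K).relIndex H := by
    rw [inf_comm, Subgroup.inf_relIndex_right, ← Subgroup.relIndex_sup_right, h,
      Subgroup.relIndex_top_right]
  have h2 := Subgroup.relIndex_mul_index (inf_le_left : H ⊓ K ≤ H)
  rw [← Subgroup.relIndex_mul_index (inf_le_right : H ⊓ K ≤ K), Subgroup.inf_relIndex_right,
    ← h1, mul_comm (H.relIndex K)] at h2
  exact mul_left_cancel₀ Subgroup.index_ne_zero_of_finite h2

/-- An isolated involution normalises some Sylow `p`-subgroup, for every `p`. -/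
theorem exists_sylow_invariant (p : ℕ) [hp : Fact p.Prime] :
    ∀ (G : Type u) [Group G] [Finite G] (z : G), IsIsolatedInvolution z →
      ∃ P : Sylow p G, z ∈ Subgroup.normalizer ((P : Subgroup G) : Set G) := by
  suffices key : ∀ (n : ℕ) (G : Type u) [Group G] [Finite G], Nat.card G = n →
      ∀ z : G, IsIsolatedInvolution z →
        ∃ P : Sylow p G, z ∈ Subgroup.normalizer ((P : Subgroup G) : Set G) from
    fun G _ _ z hz => key _ G rfl z hz
  intro n
  induction n using Nat.strong_induction_on with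
  | _ n ih =>
    intro G _ _ hn z hz
    set O := oddCore G with hO
    haveI hOn : O.Normal := pPrimeCore_normal 2 G
    set C := Subgroup.centralizer ({z} : Set G) with hC
    have hzC : z ∈ C := Subgroup.mem_centralizer_singleton_iff.2 rfl
    by_cases hpO : p ∣ Nat.card O
    swap
    · obtain ⟨P⟩ : Nonempty (Sylow p C) := inferInstance
      have hidx : C.index ∣ Nat.card O := by
        have hsup : C ⊔ O = ⊤ := by
          rw [eq_top_iff]
          intro g _
          obtain ⟨a, ha, c, hc, rfl⟩ := exists_mul_centralizer hz g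
          exact mul_mem (Subgroup.mem_sup_right ha) (Subgroup.mem_sup_left hc)
        rw [index_eq_relIndex_of_sup_eq_top hsup]
        exact Subgroup.index_dvd_card _
      have hndvd : ¬ p ∣ ((P : Subgroup C).map C.subtype).index := by
        rw [Subgroup.index_map_subtype]
        exact fun hd => (hp.out.dvd_mul.1 hd).elim P.not_dvd_index fun h => hpO (h.trans hidx)
      refine ⟨(P.2.map C.subtype).toSylow hndvd, ?_⟩
      rw [IsPGroup.toSylow_coe, Subgroup.mem_normalizer_iff]
      intro x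
      constructor
      · intro hx
        obtain ⟨y, hy, rfl⟩ := hx
        have : z * (y : G) * z⁻¹ = y := by
          rw [mul_inv_eq_iff_eq_mul]; exact (Subgroup.mem_centralizer_singleton_iff.1 y.2).symm
        show z * (C.subtype y) * z⁻¹ ∈ _
        rw [show C.subtype y = (y : G) from rfl, this]
        exact ⟨y, hy, rfl⟩
      · rintro ⟨y, hy, hyx⟩
        have hyx' : (y : G) = z * x * z⁻¹ := hyx
        have : z⁻¹ * (y : G) * z = y := by
          rw [mul_assoc, Subgroup.mem_centralizer_singleton_iff.1 y.2, inv_mul_cancel_left]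
        have hx : x = y := by rw [← this, hyx']; group
        exact hx ▸ ⟨y, hy, rfl⟩
    -- a `z`-invariant Sylow subgroup of `O(G)`: `z` permutes an odd number of them
    let a : MulAut O := MulAut.conjNormal z
    have ha : a * a = 1 := by
      rw [← map_mul, invol_mul_self hz.1, map_one]
    obtain ⟨R, hR⟩ : ∃ R : Sylow p O, ∀ x : O, (x : G) ∈ (R : Subgroup O).map O.subtype →
        z * (x : G) * z⁻¹ ∈ (R : Subgroup O).map O.subtype := by
      classical
      haveI := Fintype.ofFinite (Sylow p O)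
      have hodd : Odd (Fintype.card (Sylow p O)) := by
        obtain ⟨R₀⟩ : Nonempty (Sylow p O) := inferInstance
        rw [← Nat.card_eq_fintype_card]
        exact Odd.of_dvd_nat (Base.odd_card_oddCore G)
          (R₀.card_eq_index_normalizer ▸ Subgroup.index_dvd_card _)
      let σ : Equiv.Perm (Sylow p O) :=
        { toFun := fun R => a • R
          invFun := fun R => a • R
          left_inv := fun R => by show a • a • R = R; rw [smul_smul, ha, one_smul]
          right_inv := fun R => by show a • a • R = R; rw [smul_smul, ha, one_smul] }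
      have hσ : σ ^ 2 = 1 := by
        ext1 R
        show a • a • R = R
        rw [smul_smul, ha, one_smul]
      obtain ⟨R, hR⟩ : ∃ R, σ R = R := by
        haveI : Fact (Nat.Prime 2) := ⟨Nat.prime_two⟩
        exact Equiv.Perm.exists_fixed_point_of_prime (p := 2) (n := 1)
          (fun h => (Nat.not_even_iff_odd.2 hodd) (even_iff_two_dvd.2 h)) (by rwa [pow_one])
      refine ⟨R, fun x hx => ?_⟩
      obtain ⟨y, hy, hyx⟩ := hx
      obtain rfl : y = x := Subtype.ext hyx
      refine ⟨a • y, ?_, rfl⟩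
      have h1 : a • y ∈ (a • R : Sylow p O) := by
        show a • y ∈ a • (R : Subgroup O)
        exact Subgroup.smul_mem_pointwise_smul y a _ hy
      rwa [show a • R = R from hR] at h1
    set R' := (R : Subgroup O).map O.subtype with hR'
    have hzR : z ∈ Subgroup.normalizer (R' : Set G) := by
      rw [Subgroup.mem_normalizer_iff]
      have hin : ∀ x ∈ R', z * x * z⁻¹ ∈ R' := fun x hx => by
        obtain ⟨y, hy, rfl⟩ := hx
        exact hR y ⟨y, hy, rfl⟩
      intro x
      refine ⟨hin x, fun hx => ?_⟩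
      have := hin _ hx
      rwa [invol_inv hz.1, show z * (z * x * z) * z = (z * z) * x * (z * z) by group,
        invol_mul_self hz.1, one_mul, mul_one] at this
    set M := Subgroup.normalizer (R' : Set G) with hM
    have hne : R' ≠ ⊥ := by
      rw [hR', Ne, Subgroup.map_eq_bot_iff_of_injective _ O.subtype_injective]
      exact R.ne_bot_of_dvd_card hpO
    by_cases hMtop : M = ⊤
    · haveI : R'.Normal := Subgroup.normalizer_eq_top_iff.1 hMtop
      have hzR' : z ∉ R' := fun h => by
        have h1 := O.orderOf_dvd_natCard (Subgroup.map_subtype_le _ h)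
        rw [hz.1] at h1
        exact Nat.not_even_iff_odd.2 (Base.odd_card_oddCore G) (even_iff_two_dvd.2 h1)
      have hlt : Nat.card (G ⧸ R') < n := by
        rw [← hn, Subgroup.card_eq_card_quotient_mul_card_subgroup R']
        exact lt_mul_of_one_lt_right Nat.card_pos ((Subgroup.one_lt_card_iff_ne_bot _).2 hne)
      obtain ⟨Pq, hPq⟩ := ih _ hlt _ rfl _ (isolated_quotient hz R' hzR')
      have hRp : IsPGroup p (QuotientGroup.mk' R').ker := by
        rw [QuotientGroup.ker_mk']; exact R.2.map _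
      have hndvd : ¬ p ∣ ((Pq : Subgroup (G ⧸ R')).comap (QuotientGroup.mk' R')).index := by
        rw [Subgroup.index_comap_of_surjective _ (QuotientGroup.mk'_surjective R')]
        exact Pq.not_dvd_index
      refine ⟨(Pq.2.comap_of_ker_isPGroup _ hRp).toSylow hndvd, ?_⟩
      rw [IsPGroup.toSylow_coe, Subgroup.mem_normalizer_iff]
      intro x
      rw [Subgroup.mem_comap, Subgroup.mem_comap, map_mul, map_mul, map_inv]
      exact Subgroup.mem_normalizer_iff.1 hPq _
    · have hlt : Nat.card M < n := by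
        rw [← hn]
        rcases (Subgroup.card_le_card_group M).lt_or_eq with h1 | h1
        · exact h1
        · exact absurd ((Subgroup.card_eq_iff_eq_top M).1 h1) hMtop
      obtain ⟨P, hP⟩ := ih _ hlt _ rfl _ (isolated_subgroup hz M hzR)
      have hidx : ¬ p ∣ M.index := by
        have hsup : M ⊔ O = ⊤ := Sylow.normalizer_sup_eq_top R
        rw [index_eq_relIndex_of_sup_eq_top hsup]
        refine fun h => R.not_dvd_index (h.trans (Subgroup.index_dvd_of_le ?_))
        intro x hx
        refine Subgroup.le_normalizer ⟨x, hx, rfl⟩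
      have hndvd : ¬ p ∣ ((P : Subgroup M).map M.subtype).index := by
        rw [Subgroup.index_map_subtype]
        exact fun hd => (hp.out.dvd_mul.1 hd).elim P.not_dvd_index hidx
      refine ⟨(P.2.map M.subtype).toSylow hndvd, ?_⟩
      rw [IsPGroup.toSylow_coe]
      have := Subgroup.le_normalizer_map M.subtype ⟨_, hP, rfl⟩
      exact this

/-- Invariant Sylow subgroups are conjugate under the centraliser of the involution. -/
theorem exists_centralizer_conj {G : Type u} [Group G] [Finite G] {z : G} {p : ℕ} [Fact p.Prime]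
    (hz : IsIsolatedInvolution z) (P Q : Sylow p G)
    (hP : z ∈ Subgroup.normalizer ((P : Subgroup G) : Set G))
    (hQ : z ∈ Subgroup.normalizer ((Q : Subgroup G) : Set G)) :
    ∃ c ∈ Subgroup.centralizer ({z} : Set G), c • P = Q := by
  obtain ⟨g, rfl⟩ := MulAction.exists_smul_eq G P Q
  obtain ⟨k, hk⟩ := Isolated.exists_zpow_conj hz (v := g⁻¹ * z * g)
    (isConj_iff.2 ⟨g⁻¹, by rw [inv_inv]⟩)
  have hv : g⁻¹ * z * g ∈ Subgroup.normalizer ((P : Subgroup G) : Set G) := by
    refine mem_normalizer_of_smul_eq ?_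
    rw [mul_smul, mul_smul, Sylow.smul_eq_iff_mem_normalizer.2 hQ, inv_smul_smul]
  have hd := Subgroup.zpow_mem _ (mul_mem hP hv) k
  generalize (z * (g⁻¹ * z * g)) ^ k = d at hk hd
  refine ⟨g * d, ?_, by rw [mul_smul, Sylow.smul_eq_iff_mem_normalizer.2 hd]⟩
  rw [Subgroup.mem_centralizer_singleton_iff]
  calc g * d * z = g * (d * z * d⁻¹) * d := by group
    _ = z * (g * d) := by rw [hk]; group

/-- A maximal invariant `p`-subgroup is a Sylow subgroup. -/
theorem exists_sylow_eq_of_maximal {G : Type u} [Group G] [Finite G] {z : G}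
    (hz : IsIsolatedInvolution z) {p : ℕ} [hp : Fact p.Prime] (Q : Subgroup G) (hQ : IsPGroup p Q)
    (hzQ : z ∈ Subgroup.normalizer (Q : Set G))
    (hmax : ∀ R : Subgroup G, IsPGroup p R → z ∈ Subgroup.normalizer (R : Set G) → Q ≤ R → R = Q) :
    ∃ P : Sylow p G, (P : Subgroup G) = Q := by
  set N := Subgroup.normalizer (Q : Set G) with hN
  obtain ⟨T, hT⟩ := exists_sylow_invariant p N _ (isolated_subgroup hz N hzQ)
  haveI : (Q.comap N.subtype).Normal := Subgroup.normal_in_normalizer
  have hQT : Q.subgroupOf N ≤ (T : Subgroup N) :=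
    (hQ.comap_subtype (K := N) : IsPGroup p (Q.subgroupOf N)).le_sylow_of_normal T
  have e : (T : Subgroup N).map N.subtype = Q := by
    refine hmax _ (T.2.map _) (Subgroup.le_normalizer_map N.subtype ⟨_, hT, rfl⟩) ?_
    intro x hx
    exact ⟨⟨x, Subgroup.le_normalizer hx⟩, hQT hx, rfl⟩
  obtain ⟨P, hP⟩ := hQ.exists_le_sylow
  refine ⟨P, ?_⟩
  by_contra hne
  haveI : Group.IsNilpotent (P : Subgroup G) := P.2.isNilpotent
  have hlt : Q.subgroupOf (P : Subgroup G) < ⊤ := by
    rw [lt_top_iff_ne_top, Ne, Subgroup.subgroupOf_eq_top]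
    exact fun h => hne (le_antisymm h hP)
  have hnc := Group.normalizerCondition_of_isNilpotent (G := (P : Subgroup G)) _ hlt
  obtain ⟨x, hxN, hxQ⟩ := Set.exists_of_ssubset (SetLike.coe_ssubset_coe.2 hnc)
  rw [SetLike.mem_coe, ← Subgroup.subgroupOf_normalizer_eq hP] at hxN
  apply hxQ
  show (x : G) ∈ Q
  have hxT : (⟨(x : G), hxN⟩ : N) ∈ (T : Subgroup N) := by
    have hp2 : IsPGroup p (((P : Subgroup G) ⊓ N).subgroupOf N) :=
      (P.2.to_le inf_le_left).comap_subtype
    have hle : (T : Subgroup N) ≤ ((P : Subgroup G) ⊓ N).subgroupOf N := fun y hy =>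
      ⟨hP (e ▸ ⟨y, hy, rfl⟩), y.2⟩
    exact (T.3 hp2 hle) ▸ (⟨x.2, hxN⟩ : (⟨(x : G), hxN⟩ : N) ∈ ((P : Subgroup G) ⊓ N).subgroupOf N)
  exact e ▸ ⟨_, hxT, rfl⟩

/-- For an invariant Sylow `p`-subgroup `P`, `P ∩ C(z)` is a Sylow subgroup of `C(z)`. -/
theorem not_dvd_relIndex_inf_centralizer {G : Type u} [Group G] [Finite G] {z : G}
    (hz : IsIsolatedInvolution z) {p : ℕ} [hp : Fact p.Prime] (P : Sylow p G)
    (hzP : z ∈ Subgroup.normalizer ((P : Subgroup G) : Set G)) :
    ¬ p ∣ ((P : Subgroup G) ⊓ Subgroup.centralizer ({z} : Set G)).relIndex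
      (Subgroup.centralizer ({z} : Set G)) := by
  set C := Subgroup.centralizer ({z} : Set G) with hC
  obtain ⟨P₁⟩ : Nonempty (Sylow p C) := inferInstance
  set Q₁ := (P₁ : Subgroup C).map C.subtype with hQ₁
  obtain ⟨R, ⟨hRp, hRz, hRQ⟩, hRmax⟩ : ∃ R : Subgroup G, (IsPGroup p R ∧
      z ∈ Subgroup.normalizer (R : Set G) ∧ Q₁ ≤ R) ∧ ∀ R' : Subgroup G,
      (IsPGroup p R' ∧ z ∈ Subgroup.normalizer (R' : Set G) ∧ Q₁ ≤ R') → R ≤ R' → R' = R := by
    have hzQ₁ : z ∈ Subgroup.normalizer (Q₁ : Set G) := by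
      have hfix : ∀ x ∈ Q₁, z * x * z⁻¹ = x := by
        rintro x ⟨y, -, rfl⟩
        rw [mul_inv_eq_iff_eq_mul]
        exact (Subgroup.mem_centralizer_singleton_iff.1 y.2).symm
      rw [Subgroup.mem_normalizer_iff]
      refine fun x => ⟨fun hx => by rw [hfix x hx]; exact hx, fun hx => ?_⟩
      have h5 := hfix _ hx
      rw [invol_inv hz.1] at h5 hx
      rwa [← h5, show z * (z * x * z) * z = (z * z) * x * (z * z) by group, invol_mul_self hz.1,
        one_mul, mul_one] at hx
    obtain ⟨R, hR1, hR2⟩ := (Set.toFinite {R : Subgroup G | IsPGroup p R ∧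
      z ∈ Subgroup.normalizer (R : Set G) ∧ Q₁ ≤ R}).exists_maximal
        ⟨Q₁, P₁.2.map _, hzQ₁, le_rfl⟩
    exact ⟨R, hR1, fun R' h1 h2 => le_antisymm (hR2 h1 h2) h2⟩
  obtain ⟨P', hP'⟩ := exists_sylow_eq_of_maximal hz R hRp hRz
    fun R' h1 h2 h3 => hRmax R' ⟨h1, h2, hRQ.trans h3⟩ h3
  obtain ⟨c, hc, hcP⟩ := exists_centralizer_conj hz P P' hzP (hP' ▸ hRz)
  have hPC : IsPGroup p ((P : Subgroup G) ⊓ C : Subgroup G) := P.2.to_le inf_le_left
  have hmem : ∀ x : C, x ∈ P₁ → c⁻¹ * (x : G) * c ∈ (P : Subgroup G) ⊓ C := fun x hx => by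
    refine ⟨?_, show _ ∈ C from mul_mem (mul_mem (inv_mem hc) x.2) hc⟩
    have h1 : (x : G) ∈ (P' : Subgroup G) := hP' ▸ hRQ ⟨x, hx, rfl⟩
    rw [← hcP] at h1
    exact Transfer.mem_coe_smul_sylow_iff.1 h1
  have hcard : Nat.card P₁ ≤ Nat.card ((P : Subgroup G) ⊓ C : Subgroup G) :=
    Nat.card_le_card_of_injective (fun x : P₁ => (⟨_, hmem x x.2⟩ : ((P : Subgroup G) ⊓ C : Subgroup G)))
      fun x y h => by simpa using h
  obtain ⟨T, hT⟩ := (hPC.comap_subtype (K := C)).exists_le_sylow
  have hT' : ((P : Subgroup G) ⊓ C).subgroupOf C = (T : Subgroup C) := by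
    refine Subgroup.eq_of_le_of_card_ge hT ?_
    rw [T.card_eq_multiplicity, ← P₁.card_eq_multiplicity,
      Nat.card_congr (Subgroup.subgroupOfEquivOfLe inf_le_right).toEquiv]
    exact hcard
  rw [Subgroup.relIndex]
  exact hT' ▸ T.not_dvd_index

/-- The inverted elements of an invariant subgroup of odd order count the cosets of the fixed
points. -/
theorem card_inverted {G : Type u} [Group G] [Finite G] {z : G} (hz : orderOf z = 2)
    (P : Subgroup G) (hodd : Odd (Nat.card P)) (hzP : z ∈ Subgroup.normalizer (P : Set G)) :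
    (P ⊓ Subgroup.centralizer ({z} : Set G)).relIndex P =
      Nat.card {x : G // x ∈ P ∧ z * x * z⁻¹ = x⁻¹} := by
  rw [Subgroup.relIndex, Subgroup.index]
  refine (Nat.card_congr (Equiv.ofBijective (fun x => QuotientGroup.mk (⟨x.1, x.2.1⟩ : P)) ⟨?_, ?_⟩)).symm
  · rintro ⟨x, hx, hxi⟩ ⟨y, hy, hyi⟩ hxy
    rw [QuotientGroup.eq, Subgroup.mem_subgroupOf] at hxy
    have hc : z * (x⁻¹ * y) = x⁻¹ * y * z :=
      (Subgroup.mem_centralizer_singleton_iff.1 hxy.2).symm
    have h1 : z * (x⁻¹ * y) * z⁻¹ = x * y⁻¹ := by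
      calc z * (x⁻¹ * y) * z⁻¹ = (z * x * z⁻¹)⁻¹ * (z * y * z⁻¹) := by group
        _ = x * y⁻¹ := by rw [hxi, hyi, inv_inv]
    rw [hc, mul_inv_cancel_right] at h1
    have h3 : y ^ 2 = x ^ 2 := by
      rw [sq, sq]
      calc y * y = x * (x⁻¹ * y) * y := by group
        _ = x * (x * y⁻¹) * y := by rw [h1]
        _ = x * x := by group
    have h4 : ∀ w ∈ P, ∀ k : ℕ, Nat.card P = 2 * k + 1 → (w ^ 2) ^ (k + 1) = w := fun w hw k hk => by
      rw [← pow_mul, show 2 * (k + 1) = Nat.card P + 1 by omega, pow_succ,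
        show w ^ Nat.card P = 1 from congrArg Subtype.val (pow_card_eq_one' (x := (⟨w, hw⟩ : P))),
        one_mul]
    obtain ⟨k, hk⟩ := hodd
    exact Subtype.ext (show x = y from (h4 x hx k hk).symm.trans (by rw [← h3]; exact h4 y hy k hk))
  · rintro q
    obtain ⟨⟨g, hg⟩, rfl⟩ := QuotientGroup.mk_surjective q
    set m := g * (z * g⁻¹ * z⁻¹) with hm
    have hmP : m ∈ P := mul_mem hg ((Subgroup.mem_normalizer_iff.1 hzP _).1 (inv_mem hg))
    have hmi : z * m * z⁻¹ = m⁻¹ := by
      rw [hm]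
      simp only [invol_inv hz, mul_inv_rev, inv_inv]
      rw [show z * (g * (z * g⁻¹ * z)) * z = z * g * z * g⁻¹ * (z * z) by group,
        invol_mul_self hz, mul_one]
      group
    obtain ⟨k, hk⟩ := exists_zpow_sq_eq (a := m)
      (Odd.of_dvd_nat hodd (P.orderOf_dvd_natCard hmP))
    refine ⟨⟨m ^ k, P.zpow_mem hmP k, by rw [← conj_zpow, hmi, inv_zpow]⟩, ?_⟩
    show QuotientGroup.mk (⟨m ^ k, _⟩ : P) = QuotientGroup.mk ⟨g, hg⟩
    rw [QuotientGroup.eq, Subgroup.mem_subgroupOf]
    refine ⟨show _ ∈ P from mul_mem (inv_mem (P.zpow_mem hmP k)) hg, ?_⟩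
    show ((m ^ k)⁻¹ * g : G) ∈ Subgroup.centralizer ({z} : Set G)
    rw [Subgroup.mem_centralizer_singleton_iff]
    have hinv : z * (m ^ k)⁻¹ * z⁻¹ = m ^ k := by
      rw [← zpow_neg, ← conj_zpow, hmi, inv_zpow, ← zpow_neg, neg_neg]
    have e : z * ((m ^ k)⁻¹ * g) * z⁻¹ = (m ^ k)⁻¹ * g := by
      calc z * ((m ^ k)⁻¹ * g) * z⁻¹ = (z * (m ^ k)⁻¹ * z⁻¹) * (z * g * z⁻¹) := by group
        _ = m ^ k * ((m ^ 1)⁻¹ * g) := by rw [hinv, pow_one, hm]; group
        _ = (m ^ k)⁻¹ * g := by
          rw [← mul_assoc]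
          congr 1
          rw [pow_one]
          calc m ^ k * m⁻¹ = m ^ k * ((m ^ k) ^ 2)⁻¹ := by rw [hk]
            _ = (m ^ k)⁻¹ := by group
    rw [mul_inv_eq_iff_eq_mul] at e
    exact e.symm

end CfsgLib.Involutions.ZStar
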