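import Cfsg.Agent.Lib.Involutions.ZStar.Unique
import Cfsg.Agent.Lib.OddOrder.CyclicSubgroups

/-!
# The Brauer–Suzuki theorem for generalized quaternion groups of order at least 16
-/

set_option autoImplicit false
set_option linter.style.haveILetI false

namespace CfsgLib.Involutions.ZStar

open Cfsg CfsgLib.Chars
open scoped ComplexConjugate

universe u

/-! ### Generalized characters of the dihedral group of order eight -/

/-- The weights on the residues modulo four. -/
def bsWeight : ZMod 4 → ℕ := ![0, 1, 2, 1]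

/-- A linear character of the dihedral group of order eight, trivial on the rotations. -/
def d4SignA : DihedralGroup 4 →* ℤˣ where
  toFun g := match g with
    | .r _ => 1
    | .sr _ => -1
  map_one' := rfl
  map_mul' := by decide

/-- A linear character of the dihedral group of order eight. -/
def d4SignB : DihedralGroup 4 →* ℤˣ where
  toFun g := match g with
    | .r i => (-1) ^ i.val
    | .sr i => (-1) ^ i.val
  map_one' := rfl
  map_mul' := by decide

/-- The action on the vertices of the square. -/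
def d4Perm : DihedralGroup 4 →* Equiv.Perm (ZMod 4) where
  toFun g := match g with
    | .r i => ⟨fun t => t - i, fun t => t + i, fun _ => by simp, fun _ => by simp⟩
    | .sr i => ⟨fun t => i - t, fun t => i - t, fun _ => by simp, fun _ => by simp⟩
  map_one' := by ext t; revert t; decide
  map_mul' := by
    rintro (i | i) (j | j) <;> ext t <;> revert i j t <;> decide

theorem isCharacter_d4Perm :
    IsCharacter (DihedralGroup 4)
      (fun g => ((Fintype.card {t : ZMod 4 // d4Perm g t = t} : ℕ) : ℂ)) := by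
  have h := isCharacter_comp d4Perm
    (isCharacter_character (permRep (Equiv.Perm (ZMod 4)) (ZMod 4)))
  refine cast (congrArg _ (funext fun g => ?_)) h
  rw [character_permRep, ← Nat.card_eq_fintype_card]
  rfl

theorem isCharacter_d4_linear (l : DihedralGroup 4 →* ℤˣ) :
    IsCharacter (DihedralGroup 4) (fun g => ((l g : ℤ) : ℂ)) := by
  have h := isCharacter_of_irr
    (isIrrCharacter_linear ((Units.map (Int.castRingHom ℂ).toMonoidHom).comp l))
  exact h

/-- The generalized character of `D₈` used for the Brauer–Suzuki theorem. -/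
def d4Fun (b c : Bool) : DihedralGroup 4 → ℕ
  | .r i => 2 * bsWeight i
  | .sr i => if i.val % 2 = 0 then (if b then 4 else 0) else (if c then 4 else 0)

theorem d4Fun_eq : ∀ (b c : Bool) (g : DihedralGroup 4), (d4Fun b c g : ℤ) =
    1 + (d4SignA g : ℤ) - (Fintype.card {t : ZMod 4 // d4Perm g t = t} : ℕ) + 1
      + (d4SignB g : ℤ)
      + (if b then 1 - (d4SignA g : ℤ) + (d4SignB g : ℤ) - (d4SignA g : ℤ) * (d4SignB g : ℤ) else 0)
      + (if c then 1 - (d4SignA g : ℤ) - (d4SignB g : ℤ) + (d4SignA g : ℤ) * (d4SignB g : ℤ)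
          else 0) := by
  decide

theorem isGeneralized_d4Fun (b c : Bool) :
    IsGeneralizedCharacter (DihedralGroup 4) (fun g => (d4Fun b c g : ℂ)) := by
  have h1 := isGeneralized_ofChar (isCharacter_one (G := DihedralGroup 4))
  have hA := isGeneralized_ofChar (isCharacter_d4_linear d4SignA)
  have hB := isGeneralized_ofChar (isCharacter_d4_linear d4SignB)
  have hAB := isGeneralized_ofChar (isCharacter_mul (isCharacter_d4_linear d4SignA)
    (isCharacter_d4_linear d4SignB))
  have hP := isGeneralized_ofChar isCharacter_d4Perm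
  have h0 := isGeneralized_ofChar (isCharacter_zero (G := DihedralGroup 4))
  have hbase := isGeneralized_add'
    (isGeneralized_add' (isGeneralized_sub' (isGeneralized_add' h1 hA) hP) h1) hB
  have hI0 := isGeneralized_sub' (isGeneralized_add' (isGeneralized_sub' h1 hA) hB) hAB
  have hI1 := isGeneralized_add' (isGeneralized_sub' (isGeneralized_sub' h1 hA) hB) hAB
  cases b <;> cases c
  · refine cast (congrArg _ (funext fun g => ?_)) hbase
    have h := congrArg (fun k : ℤ => (k : ℂ)) (d4Fun_eq false false g)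
    simp at h ⊢; linear_combination -h
  · refine cast (congrArg _ (funext fun g => ?_)) (isGeneralized_add' hbase hI1)
    have h := congrArg (fun k : ℤ => (k : ℂ)) (d4Fun_eq false true g)
    simp at h ⊢; linear_combination -h
  · refine cast (congrArg _ (funext fun g => ?_)) (isGeneralized_add' hbase hI0)
    have h := congrArg (fun k : ℤ => (k : ℂ)) (d4Fun_eq true false g)
    simp at h ⊢; linear_combination -h
  · refine cast (congrArg _ (funext fun g => ?_))
      (isGeneralized_add' (isGeneralized_add' hbase hI0) hI1)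
    have h := congrArg (fun k : ℤ => (k : ℂ)) (d4Fun_eq true true g)
    simp at h ⊢; linear_combination -h

variable {G : Type u} [Group G]

/-- The projection of a generalized quaternion group of order at least 16 onto `D₈`. -/
def quatToD4 (m : ℕ) [NeZero m] (hm : 4 ∣ m) : QuaternionGroup m →* DihedralGroup 4 where
  toFun g := match g with
    | .a i => .r (ZMod.castHom (hm.trans (Dvd.intro_left 2 rfl)) (ZMod 4) i)
    | .xa i => .sr (ZMod.castHom (hm.trans (Dvd.intro_left 2 rfl)) (ZMod 4) i)
  map_one' := by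
    show DihedralGroup.r _ = _
    rw [map_zero]
    rfl
  map_mul' := by
    have hm0 : (m : ZMod 4) = 0 := (ZMod.natCast_eq_zero_iff _ _).2 hm
    rintro (i | i) (j | j) <;>
      simp only [QuaternionGroup.a_mul_a, QuaternionGroup.a_mul_xa, QuaternionGroup.xa_mul_a,
        QuaternionGroup.xa_mul_xa, DihedralGroup.r_mul_r, DihedralGroup.r_mul_sr,
        DihedralGroup.sr_mul_r, DihedralGroup.sr_mul_sr, map_add, map_sub, map_natCast, hm0,
        zero_add]

namespace MinCounterexample

variable {z : G}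

theorem sum_bsWeight (j : ℕ) :
    ∑ k ∈ Finset.range (4 * j), bsWeight (k : ZMod 4) = 4 * j ∧
      ∑ k ∈ Finset.range (4 * j), bsWeight (k : ZMod 4) ^ 2 = 6 * j := by
  induction j with
  | zero => simp
  | succ j ih =>
    have h4 : ((4 * j : ℕ) : ZMod 4) = 0 := (ZMod.natCast_eq_zero_iff _ _).2 ⟨j, rfl⟩
    rw [mul_add, mul_one]
    simp only [Finset.sum_range_succ, ih.1, ih.2, Nat.cast_add, h4]
    simp [bsWeight]
    omega

theorem false_of_quaternion_ge [Finite G] (h : MinCounterexample G z) (S : Sylow 2 G) {n : ℕ}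
    (hn : 2 ≤ n) (hzS : z ∈ S) (e : (S : Subgroup G) ≃* QuaternionGroup (2 ^ n)) : False := by
  classical
  haveI := Fintype.ofFinite G
  haveI : Fact (Nat.Prime 2) := ⟨Nat.prime_two⟩
  haveI := irrFintype G
  have hm4 : 4 ∣ 2 ^ n := by
    rw [show (4 : ℕ) = 2 ^ 2 from rfl]; exact pow_dvd_pow 2 hn
  set N := 2 * 2 ^ n with hN
  have hm4' : 4 ≤ 2 ^ n := Nat.le_of_dvd (by positivity) hm4
  have hN4 : 4 ∣ N := hm4.trans (Dvd.intro_left 2 rfl)
  set xS : (S : Subgroup G) := e.symm (.a 1) with hxS
  set x : G := (xS : G) with hxdef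
  have hx : orderOf x = N := by
    rw [hxdef, Subgroup.orderOf_coe, hxS, MulEquiv.orderOf_eq, QuaternionGroup.orderOf_a_one]
  set s₀ : G := ((e.symm (.xa 0) : (S : Subgroup G)) : G) with hs₀
  have hxmem : ∀ k : ℕ, x ^ k ∈ (S : Subgroup G) := fun k => pow_mem xS.2 k
  have hform : ∀ i : ZMod (2 * 2 ^ n),
      ((e.symm (.a i) : (S : Subgroup G)) : G) = x ^ i.val := fun i => by
    rw [hxdef, ← Subgroup.coe_pow, hxS, ← map_pow, QuaternionGroup.a_one_pow,
      ZMod.natCast_zmod_val]
  have hnat : ∀ k : ℕ, e ⟨x ^ k, hxmem k⟩ = .a (k : ZMod (2 * 2 ^ n)) := fun k => by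
    rw [show (⟨x ^ k, hxmem k⟩ : (S : Subgroup G)) = xS ^ k from rfl, hxS, map_pow,
      MulEquiv.apply_symm_apply, QuaternionGroup.a_one_pow]
  have hinv₀ : ∀ k : ℕ, s₀ * x ^ k * s₀⁻¹ = (x ^ k)⁻¹ := fun k => by
    have : e (e.symm (.xa 0) * ⟨x ^ k, hxmem k⟩ * (e.symm (.xa 0))⁻¹) =
        e (⟨x ^ k, hxmem k⟩⁻¹ : (S : Subgroup G)) := by
      rw [map_mul, map_mul, map_inv, map_inv, MulEquiv.apply_symm_apply, hnat, mul_inv_eq_iff_eq_mul,
        QuaternionGroup.xa_mul_a, show (QuaternionGroup.a (k : ZMod (2 * 2 ^ n)))⁻¹ = .a (-(k : ZMod (2 * 2 ^ n))) from rfl,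
        QuaternionGroup.a_mul_xa]
      congr 1
      ring
    exact congrArg Subtype.val (e.injective this)
  -- elements of order above four are powers of `x`
  have hbig : ∀ s ∈ (S : Subgroup G), 4 < orderOf s → ∃ k : ℕ, x ^ k = s := by
    intro s hs h4
    obtain ⟨i, hi⟩ := Transfer.quaternion_order_gt _ (e ⟨s, hs⟩)
      (by rwa [MulEquiv.orderOf_eq, Subgroup.orderOf_mk])
    refine ⟨i.val, ?_⟩
    rw [← hform, ← hi, MulEquiv.symm_apply_apply]
  -- every element of `S` acts as `±1` on `⟨x⟩`
  have hact : ∀ s ∈ (S : Subgroup G), (∀ k : ℕ, s * x ^ k * s⁻¹ = x ^ k) ∨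
      (∀ k : ℕ, s * x ^ k * s⁻¹ = (x ^ k)⁻¹) := by
    intro s hs
    rcases hq : e ⟨s, hs⟩ with i | i
    · refine Or.inl fun k => ?_
      have : s = x ^ i.val := by rw [← hform, ← hq, MulEquiv.symm_apply_apply]
      rw [this, ← pow_add, add_comm, pow_add, mul_inv_cancel_right]
    · refine Or.inr fun k => ?_
      have : s = s₀ * x ^ i.val := by
        rw [← hform, hs₀, ← Subgroup.coe_mul, ← map_mul, QuaternionGroup.xa_mul_a, zero_add,
          ← hq, MulEquiv.symm_apply_apply]
      rw [this, show s₀ * x ^ i.val * x ^ k * (s₀ * x ^ i.val)⁻¹ =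
        s₀ * (x ^ i.val * x ^ k * (x ^ i.val)⁻¹) * s₀⁻¹ by group, ← pow_add, add_comm, pow_add,
        mul_inv_cancel_right, hinv₀]
  -- fusion in `⟨x⟩`
  have hfus : ∀ k l : ℕ, ∀ g : G, g * x ^ k * g⁻¹ = x ^ l → x ^ l = x ^ k ∨ x ^ l = (x ^ k)⁻¹ := by
    intro k l g hg
    set D := Subgroup.zpowers (x ^ k) with hD
    have hDX : D ≤ Subgroup.zpowers x := Subgroup.zpowers_le.2 (pow_mem (Subgroup.mem_zpowers x) k)
    have hDl : Subgroup.zpowers (x ^ l) = D := by
      haveI : IsCyclic (Subgroup.zpowers x) := inferInstance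
      have hle : Subgroup.zpowers (x ^ l) ≤ Subgroup.zpowers x :=
        Subgroup.zpowers_le.2 (pow_mem (Subgroup.mem_zpowers x) l)
      have hcd : Nat.card (Subgroup.zpowers (x ^ l)) = Nat.card D := by
        rw [hD, Nat.card_zpowers, Nat.card_zpowers, ← hg, orderOf_conj_eq]
      exact OddOrder.eq_of_card_eq_of_isCyclic hle hDX hcd
    have hgn : g ∈ Subgroup.normalizer (D : Set G) := by
      rw [Subgroup.mem_normalizer_iff_map_conj_eq, hD, MonoidHom.map_zpowers]
      simp only [MonoidHom.coe_coe, MulAut.conj_apply]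
      rw [hg, hDl]
    have hcyc : IsCyclic D := inferInstanceAs (IsCyclic (Subgroup.zpowers (x ^ k)))
    have hDp : IsPGroup 2 D := (S.2.to_le (Subgroup.zpowers_le.2 (hxmem k)))
    set Nm := Subgroup.normalizer (D : Set G) with hNm
    have hSN : (S : Subgroup G) ≤ Nm := fun s hs => by
      rw [hNm, Subgroup.mem_normalizer_iff_map_conj_eq, hD, MonoidHom.map_zpowers]
      simp only [MonoidHom.coe_coe, MulAut.conj_apply]
      rcases hact s hs with h1 | h1 <;> rw [h1 k]
      exact Subgroup.zpowers_inv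
    -- the odd part of `g` centralises, its two part is conjugate into `S`
    obtain ⟨hcomm, ⟨j, hj⟩, hgab⟩ := twoPart_spec g
    set a := twoPart g
    set b := BlockOrth.pPrimePart 2 g with hb
    have hbN : b ∈ Nm := by
      obtain ⟨i, hi⟩ := (BlockOrth.isPPrimePart_pPrimePart (p := 2) g).exists_pow
      have h2 := pow_mem hgn i
      rwa [hi] at h2
    have haN : a ∈ Nm := by
      have : a = g * b⁻¹ := by rw [← hgab, mul_inv_cancel_right]
      exact this ▸ mul_mem hgn (inv_mem hbN)
    have hbD := Transfer.mem_centralizer_of_isCyclic hDp hcyc hbN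
      ((Nat.Prime.coprime_iff_not_dvd Nat.prime_two).2
        (BlockOrth.not_dvd_orderOf_pPrimePart g)).symm
    have hby : b * x ^ k * b⁻¹ = x ^ k := by
      rw [mul_inv_eq_iff_eq_mul]
      exact (Subgroup.mem_centralizer_iff.1 hbD _ (Subgroup.mem_zpowers _)).symm
    obtain ⟨T, hT⟩ := (IsPGroup.of_card (p := 2) (n := j)
      (G := Subgroup.zpowers (⟨a, haN⟩ : Nm))
      (by rw [Nat.card_zpowers, Subgroup.orderOf_mk, hj])).exists_le_sylow
    obtain ⟨c, hc⟩ := MulAction.exists_smul_eq Nm (S.subtype hSN) T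
    have haT : (⟨a, haN⟩ : Nm) ∈ T := hT (Subgroup.mem_zpowers _)
    rw [← hc, Transfer.mem_smul_sylow_iff] at haT
    have hs : (c : G)⁻¹ * a * c ∈ (S : Subgroup G) := haT
    have hcinv : (c : G)⁻¹ * x ^ k * c ∈ D := by
      have := (Subgroup.mem_normalizer_iff.1 (inv_mem c.2) (x ^ k)).1 (Subgroup.mem_zpowers _)
      simpa using this
    obtain ⟨i, hi⟩ : ∃ i : ℕ, x ^ i = (c : G)⁻¹ * x ^ k * c :=
      mem_powers_iff_mem_zpowers.mpr (hDX hcinv)
    have hgy : g * x ^ k * g⁻¹ = a * x ^ k * a⁻¹ := by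
      rw [← hgab, show a * b * x ^ k * (a * b)⁻¹ = a * (b * x ^ k * b⁻¹) * a⁻¹ by group, hby]
    have key : a * x ^ k * a⁻¹ =
        (c : G) * ((c : G)⁻¹ * a * c * x ^ i * ((c : G)⁻¹ * a * c)⁻¹) * (c : G)⁻¹ := by
      rw [hi]; group
    rw [hg] at hgy
    rcases hact _ hs with h1 | h1 <;> rw [h1 i] at key
    · exact Or.inl (by rw [hgy, key, hi]; group)
    · exact Or.inr (by rw [hgy, key, hi]; group)
  -- centralizers of the elements of `⟨x⟩` of order at least four
  have hsec : ∀ k : ℕ, x ^ k ≠ (x ^ k)⁻¹ →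
      Nat.card {g : G // IsConj (x ^ k) (twoPart g)} * N = Nat.card G := by
    intro k hk
    set C := Subgroup.centralizer ({x ^ k} : Set G) with hC
    have hxC : Subgroup.zpowers x ≤ C := Subgroup.zpowers_le.2
      (Subgroup.mem_centralizer_singleton_iff.2 ((Commute.refl x).pow_right k).eq)
    have hXp : IsPGroup 2 (Subgroup.zpowers x) := S.2.to_le (Subgroup.zpowers_le.2 xS.2)
    obtain ⟨P, hP⟩ := ((hXp.comap_subtype (K := C))).exists_le_sylow
    obtain ⟨T, hT⟩ := (P.2.map C.subtype).exists_le_sylow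
    obtain ⟨g, rfl⟩ := MulAction.exists_smul_eq G S T
    have hPS : ∀ q : C, q ∈ P → g⁻¹ * (q : G) * g ∈ (S : Subgroup G) := fun q hq =>
      Transfer.mem_smul_sylow_iff.1 (hT ⟨q, hq, rfl⟩)
    have hxP : (⟨x, hxC (Subgroup.mem_zpowers x)⟩ : C) ∈ P := hP (Subgroup.mem_zpowers x)
    obtain ⟨l, hl⟩ := hbig _ (hPS _ hxP) (by
      rw [show g⁻¹ * x * g = g⁻¹ * x * g⁻¹⁻¹ by rw [inv_inv], orderOf_conj_eq, hx, hN]
      omega)
    have hy' : x ^ (l * k) = g⁻¹ * x ^ k * g := by
      rw [pow_mul, hl, show g⁻¹ * x * g = g⁻¹ * x * g⁻¹⁻¹ by rw [inv_inv], conj_pow, inv_inv]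
    have hPX : ∀ q : C, q ∈ P → g⁻¹ * (q : G) * g ∈ Subgroup.zpowers x := by
      intro q hq
      rcases hq' : e ⟨_, hPS q hq⟩ with i | i
      · have : g⁻¹ * (q : G) * g = x ^ i.val := by
          rw [← hform, ← hq', MulEquiv.symm_apply_apply]
        exact this ▸ pow_mem (Subgroup.mem_zpowers x) _
      · exfalso
        have hs : g⁻¹ * (q : G) * g = s₀ * x ^ i.val := by
          rw [← hform, hs₀, ← Subgroup.coe_mul, ← map_mul, QuaternionGroup.xa_mul_a, zero_add,
            ← hq', MulEquiv.symm_apply_apply]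
        have h1 : g⁻¹ * (q : G) * g * x ^ (l * k) * (g⁻¹ * (q : G) * g)⁻¹ = x ^ (l * k) := by
          rw [hy', show g⁻¹ * (q : G) * g * (g⁻¹ * x ^ k * g) * (g⁻¹ * (q : G) * g)⁻¹ =
            g⁻¹ * ((q : G) * x ^ k * (q : G)⁻¹) * g by group,
            Subgroup.mem_centralizer_singleton_iff.1 q.2, mul_inv_cancel_right]
        rw [hs, show s₀ * x ^ i.val * x ^ (l * k) * (s₀ * x ^ i.val)⁻¹ =
          s₀ * (x ^ i.val * x ^ (l * k) * (x ^ i.val)⁻¹) * s₀⁻¹ by group, ← pow_add, add_comm,
          pow_add, mul_inv_cancel_right, hinv₀, hy'] at h1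
        apply hk
        calc x ^ k = g * (g⁻¹ * x ^ k * g) * g⁻¹ := by group
          _ = g * (g⁻¹ * x ^ k * g)⁻¹ * g⁻¹ := by rw [h1]
          _ = (x ^ k)⁻¹ := by group
    have hcard : Nat.card P = N := by
      refine le_antisymm ?_ ?_
      · rw [← hx, ← Nat.card_zpowers x]
        refine Nat.card_le_card_of_injective
          (fun q : P => (⟨g⁻¹ * ((q : C) : G) * g, hPX q q.2⟩ : Subgroup.zpowers x))
          fun q q' hqq => ?_
        simpa using hqq
      · rw [← hx, ← Nat.card_zpowers x, ← Nat.card_congr (Subgroup.subgroupOfEquivOfLe hxC).toEquiv]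
        exact Subgroup.card_le_of_le hP
    have hPeq : (Subgroup.zpowers x).subgroupOf C = (P : Subgroup C) := by
      refine Subgroup.eq_of_le_of_card_ge hP ?_
      rw [Nat.card_congr (Subgroup.subgroupOfEquivOfLe hxC).toEquiv, Nat.card_zpowers, hx]
      exact hcard.le
    have hPcyc : IsCyclic P := by
      rw [← hPeq]
      exact isCyclic_of_surjective (Subgroup.subgroupOfEquivOfLe hxC).symm
        (Subgroup.subgroupOfEquivOfLe hxC).symm.surjective
    have hnc : HasNormalPComplement 2 C := by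
      refine (Transfer.hasNormalPComplement_iff_forall_centralizing P).2 fun Q hQ c hc hodd => ?_
      haveI := hPcyc
      exact Transfer.mem_centralizer_of_isCyclic (P.2.to_le hQ)
        (isCyclic_of_injective (Subgroup.inclusion hQ) (Subgroup.inclusion_injective hQ)) hc hodd
    have := card_section_mul (t := x ^ k)
      ((IsPGroup.iff_orderOf.1 S.2 ⟨x ^ k, hxmem k⟩).imp fun j hj => by
        rwa [Subgroup.orderOf_mk] at hj) hnc P
    rwa [hcard] at this
  -- the class function
  set w : ℕ → ℂ := fun k => (bsWeight (k : ZMod 4) : ℂ) with hw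
  set φ : G → ℂ := fun t => ∑ k ∈ Finset.range N, if IsConj (x ^ k) t then w k else 0 with hφdef
  have hφcl : IsClassFunction G φ := fun t c => Finset.sum_congr rfl fun k _ =>
    if_congr ⟨fun h1 => h1.trans (isConj_iff.2 ⟨c, rfl⟩).symm,
      fun h1 => h1.trans (isConj_iff.2 ⟨c, rfl⟩)⟩ rfl rfl
  have hwsym : ∀ k j : ℕ, x ^ j = x ^ k ∨ x ^ j = (x ^ k)⁻¹ → w k = w j := by
    intro k j hor
    simp only [hw]
    rcases hor with h1 | h1
    · rw [pow_eq_pow_iff_modEq, hx] at h1
      rw [(ZMod.natCast_eq_natCast_iff _ _ _).2 (Nat.ModEq.of_dvd hN4 h1)]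
    · rw [← mul_eq_one_iff_eq_inv, ← pow_add, ← orderOf_dvd_iff_pow_eq_one, hx] at h1
      have : ((j : ℕ) : ZMod 4) + (k : ℕ) = 0 := by
        rw [← Nat.cast_add, ZMod.natCast_eq_zero_iff]; exact hN4.trans h1
      rw [eq_neg_of_add_eq_zero_left this]
      generalize ((k : ℕ) : ZMod 4) = r
      exact congrArg Nat.cast ((by decide : ∀ r : ZMod 4, bsWeight r = bsWeight (-r)) r)
  have hwne : ∀ k : ℕ, w k ≠ 0 → x ^ k ≠ (x ^ k)⁻¹ := by
    intro k hk he
    rw [← mul_eq_one_iff_eq_inv, ← pow_add, ← orderOf_dvd_iff_pow_eq_one, hx, hN,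
      ← two_mul] at he
    have h4 : 4 ∣ k := hm4.trans ((Nat.mul_dvd_mul_iff_left two_pos).1 he)
    apply hk
    simp only [hw]
    rw [(ZMod.natCast_eq_zero_iff _ _).2 h4]
    simp [bsWeight]
  have hφx : ∀ j : ℕ, φ (x ^ j) = 2 * w j := by
    intro j
    have hfilter : ∀ k, IsConj (x ^ k) (x ^ j) ↔ x ^ j = x ^ k ∨ x ^ j = (x ^ k)⁻¹ := by
      intro k
      constructor
      · intro hc
        obtain ⟨g, hg⟩ := isConj_iff.1 hc
        exact hfus k j g hg
      · rintro (h1 | h1) <;> rw [h1]
        exact isConj_iff.2 ⟨s₀, hinv₀ k⟩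
    rw [hφdef]
    simp only [hfilter]
    rw [← Finset.sum_filter, Finset.sum_congr rfl (g := fun _ => w j) (fun k hk =>
      hwsym k j (Finset.mem_filter.1 hk).2), Finset.sum_const, nsmul_eq_mul]
    rcases eq_or_ne (w j) 0 with h0 | h0
    · rw [h0, mul_zero, mul_zero]
    congr 1
    have hcard : ((Finset.range N).filter
        (fun k => x ^ j = x ^ k ∨ x ^ j = (x ^ k)⁻¹)).card = 2 := by
      rw [← Finset.card_image_of_injOn (f := fun k => x ^ k) (fun a ha b hb hab =>
        pow_injOn_Iio_orderOf (by simpa [hx] using (Finset.mem_filter.1 ha).1)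
          (by simpa [hx] using (Finset.mem_filter.1 hb).1) hab)]
      rw [show ((Finset.range N).filter
        (fun k => x ^ j = x ^ k ∨ x ^ j = (x ^ k)⁻¹)).image (fun k => x ^ k) =
          {x ^ j, (x ^ j)⁻¹} from ?_, Finset.card_pair (hwne j h0)]
      ext t
      simp only [Finset.mem_image, Finset.mem_filter, Finset.mem_range, Finset.mem_insert,
        Finset.mem_singleton]
      constructor
      · rintro ⟨k, ⟨-, h1 | h1⟩, rfl⟩
        · exact Or.inl h1.symm
        · exact Or.inr (by rw [h1, inv_inv])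
      · intro ht
        obtain ⟨k, hk⟩ : ∃ k : ℕ, x ^ k = t :=
          mem_powers_iff_mem_zpowers.mpr (by
            rcases ht with rfl | rfl
            · exact pow_mem (Subgroup.mem_zpowers x) j
            · exact inv_mem (pow_mem (Subgroup.mem_zpowers x) j))
        refine ⟨k % N, ⟨Nat.mod_lt _ (by omega), ?_⟩, ?_⟩ <;>
          rw [← hx, pow_mod_orderOf, hk]
        rcases ht with rfl | rfl
        · exact Or.inl rfl
        · exact Or.inr (inv_inv _).symm
    rw [hcard, Nat.cast_ofNat]
  -- the restriction to `S`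
  have hφS : IsGeneralizedCharacter (S : Subgroup G) (fun s : (S : Subgroup G) => φ s) := by
    have hout : ∀ i : ZMod (2 * 2 ^ n),
        φ ((e.symm (.xa i) : (S : Subgroup G)) : G) = 0 ∨
          φ ((e.symm (.xa i) : (S : Subgroup G)) : G) = 4 := by
      intro i
      set s : G := ((e.symm (.xa i) : (S : Subgroup G)) : G) with hs
      have hs4 : orderOf s = 4 := by
        rw [hs, Subgroup.orderOf_coe, MulEquiv.orderOf_eq, QuaternionGroup.orderOf_xa]
      by_cases hex : ∃ k ∈ Finset.range N, IsConj (x ^ k) s ∧ w k ≠ 0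
      · obtain ⟨k, -, hc, hk⟩ := hex
        right
        obtain ⟨g, hg⟩ := isConj_iff.1 hc
        rw [← hg, hφcl, hφx]
        have hk4 : orderOf (x ^ k) = 4 := by rw [← orderOf_conj_eq g, hg, hs4]
        have h2 : ¬ Odd k := fun ho => by
          have : orderOf (x ^ k) = N := by
            rw [Nat.Coprime.orderOf_pow, hx]
            rw [hx, hN, ← pow_succ']
            exact Nat.Coprime.pow_left _ (Nat.coprime_two_left.2 ho)
          omega
        rw [Nat.not_odd_iff_even] at h2
        have : w k = 2 := by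
          simp only [hw] at hk ⊢
          suffices bsWeight (k : ZMod 4) = 2 by rw [this]; norm_num
          have hk' : bsWeight (k : ZMod 4) ≠ 0 := fun h0 => hk (by rw [h0, Nat.cast_zero])
          clear hk
          have h3 : 2 * (k : ZMod 4) = 0 := by
            obtain ⟨t, rfl⟩ := h2
            push_cast
            generalize (t : ZMod 4) = r
            revert r
            decide
          generalize (k : ZMod 4) = r at hk' h3 ⊢
          revert r
          decide
        rw [this]; norm_num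
      · left
        rw [hφdef]
        exact Finset.sum_eq_zero fun k hk => by
          split_ifs with hc
          · by_contra h0; exact hex ⟨k, hk, hc, h0⟩
          · rfl
    have hshift : ∀ i j : ZMod (2 * 2 ^ n),
        φ ((e.symm (.xa (i + 2 * j)) : (S : Subgroup G)) : G) =
          φ ((e.symm (.xa i) : (S : Subgroup G)) : G) := by
      intro i j
      rw [← hφcl ((e.symm (.xa i) : (S : Subgroup G)) : G)
        ((e.symm (.a (-j)) : (S : Subgroup G)) : G)]
      congr 1
      rw [← Subgroup.coe_inv, ← Subgroup.coe_mul, ← Subgroup.coe_mul, ← map_inv, ← map_mul,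
        ← map_mul, show (QuaternionGroup.a (-j) : QuaternionGroup (2 ^ n))⁻¹ = .a (- -j) from rfl,
        QuaternionGroup.a_mul_xa, QuaternionGroup.xa_mul_a]
      congr 3
      ring
    set b : Bool := decide (φ ((e.symm (.xa 0) : (S : Subgroup G)) : G) = 4) with hbdef
    set c : Bool := decide (φ ((e.symm (.xa 1) : (S : Subgroup G)) : G) = 4) with hcdef
    have h := isGeneralized_comp' ((quatToD4 (2 ^ n) hm4).comp e.toMonoidHom)
      (isGeneralized_d4Fun b c)
    refine cast (congrArg _ (funext fun s => ?_)) h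
    obtain ⟨q, rfl⟩ := e.symm.surjective s
    simp only [MonoidHom.coe_comp, Function.comp_apply, MulEquiv.coe_toMonoidHom,
      MulEquiv.apply_symm_apply]
    rcases q with i | i
    · rw [hform, hφx]
      show ((2 * bsWeight (ZMod.castHom _ (ZMod 4) i) : ℕ) : ℂ) = _
      simp only [hw]
      rw [← ZMod.natCast_zmod_val i, map_natCast, ZMod.natCast_zmod_val]
      push_cast
      rfl
    · show ((if (ZMod.castHom _ (ZMod 4) i).val % 2 = 0 then (if b then 4 else 0)
        else (if c then 4 else 0) : ℕ) : ℂ) = _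
      have hv : (ZMod.castHom (hN4) (ZMod 4) i).val % 2 = i.val % 2 := by
        conv_lhs => rw [← ZMod.natCast_zmod_val i, map_natCast, ZMod.val_natCast]
        omega
      rw [hv]
      rcases Nat.even_or_odd i.val with ⟨t, ht⟩ | ⟨t, ht⟩
      · have hi : i = 0 + 2 * (t : ZMod (2 * 2 ^ n)) := by
          rw [← ZMod.natCast_zmod_val i, ht]; push_cast; ring
        rw [if_pos (by omega), hi, hshift]
        rcases hout 0 with h0 | h0 <;> rw [h0] <;> simp [hbdef, h0]
      · have hi : i = 1 + 2 * (t : ZMod (2 * 2 ^ n)) := by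
          rw [← ZMod.natCast_zmod_val i, ht]; push_cast; ring
        rw [if_neg (by omega), hi, hshift]
        rcases hout 1 with h0 | h0 <;> rw [h0] <;> simp [hcdef, h0]
  have hgen := isGeneralized_comp_twoPart hφcl S hφS
  -- the inner products
  have hN0 : (N : ℂ) ≠ 0 := Nat.cast_ne_zero.2 (by omega)
  have havg : ∀ u : ℕ → ℂ, (∀ k, w k = 0 → u k = 0) →
      ∑ g : G, ∑ k ∈ Finset.range N, (if IsConj (x ^ k) (twoPart g) then u k else 0) =
        (Nat.card G : ℂ) / N * ∑ k ∈ Finset.range N, u k := by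
    intro u hu
    rw [Finset.sum_comm, Finset.mul_sum]
    refine Finset.sum_congr rfl fun k _ => ?_
    rcases eq_or_ne (w k) 0 with h0 | h0
    · simp [hu k h0]
    rw [← Finset.sum_filter, Finset.sum_const, nsmul_eq_mul, ← Fintype.card_subtype,
      ← Nat.card_eq_fintype_card, ← hsec k (hwne k h0), Nat.cast_mul,
      mul_div_cancel_right₀ _ hN0]
  obtain ⟨j, hj⟩ := hN4
  obtain ⟨hs1, hs2⟩ := sum_bsWeight j
  rw [← hj] at hs1 hs2
  have hS1 : ∑ k ∈ Finset.range N, w k = N := by
    simp only [hw]; rw [← Nat.cast_sum, hs1]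
  have hS2 : ∑ k ∈ Finset.range N, w k * (2 * w k) = 3 * N := by
    simp only [hw]
    rw [Finset.sum_congr rfl (g := fun k : ℕ => 2 * ((bsWeight (k : ZMod 4) ^ 2 : ℕ) : ℂ))
      (fun k _ => by push_cast; ring), ← Finset.mul_sum, ← Nat.cast_sum, hs2, hj]
    push_cast; ring
  have hG0 : (Nat.card G : ℂ) ≠ 0 := card_ne_zero G
  refine h.false_of_norm_three hgen ?_ ?_ (fun g hg => ?_) ?_
  · rw [inner_def]
    simp only [principal_apply, map_one, mul_one, hφdef]
    rw [havg w fun k hk => hk, hS1]
    field_simp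
  · rw [inner_def]
    have hsq : ∀ g : G, φ (twoPart g) * conj (φ (twoPart g)) = ∑ k ∈ Finset.range N,
        if IsConj (x ^ k) (twoPart g) then w k * (2 * w k) else 0 := by
      intro g
      have hreal : conj (φ (twoPart g)) = φ (twoPart g) := by
        simp only [hφdef, map_sum]
        exact Finset.sum_congr rfl fun k _ => by split_ifs <;> simp [hw]
      rw [hreal]
      conv_lhs => arg 1; simp only [hφdef]
      rw [Finset.sum_mul]
      refine Finset.sum_congr rfl fun k _ => ?_
      split_ifs with hc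
      · obtain ⟨d, hd⟩ := isConj_iff.1 hc
        rw [← hd, hφcl, hφx]
      · rw [zero_mul]
    simp only [hsq]
    rw [havg (fun k => w k * (2 * w k)) (fun k hk => by rw [hk, zero_mul]), hS2]
    field_simp
  · rw [twoPart_of_regular hg, hφdef]
    refine Finset.sum_eq_zero fun k hk => ?_
    split_ifs with hc
    · by_contra h0
      refine hwne k h0 ?_
      rw [isConj_one_left.1 hc, inv_one]
    · rfl
  · rw [twoPart_of_two ⟨1, by rw [h.iso.1, pow_one]⟩, hφdef]
    refine Finset.sum_eq_zero fun k hk => ?_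
    split_ifs with hc
    · by_contra h0
      refine hwne k h0 ?_
      obtain ⟨d, hd⟩ := isConj_iff.1 hc
      have h2 : orderOf (x ^ k) = 2 := by rw [← orderOf_conj_eq d, hd, h.iso.1]
      exact (invol_inv h2).symm
    · rfl

end MinCounterexample

end CfsgLib.Involutions.ZStar
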