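import Cfsg.Agent.Lib.Involutions.ZStar.TwoPart
import Cfsg.Agent.Lib.Involutions.Dihedral
import Cfsg.Agent.Lib.Chars.Degree
import Cfsg.Agent.Lib.Transfer.QuaternionComplement

/-!
# Groups with a central involution and quaternion Sylow `2`-subgroup with one class of elements
of order four: elements, sums and generalized characters
-/

set_option autoImplicit false
set_option linter.style.haveILetI false

namespace CfsgLib.Involutions.ZStar

open Cfsg CfsgLib.Chars CfsgLib.BlockOrth
open scoped ComplexConjugate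

universe u

theorem q8_cases : ∀ x : QuaternionGroup 2,
    x = 1 ∨ x = .a 2 ∨ (x * x ≠ 1 ∧ x * x = .a 2 ∧ x * x * (x * x) = 1) := by
  decide +kernel

theorem q8_centralizer : ∀ x y : QuaternionGroup 2, x * x ≠ 1 → x * y = y * x →
    y = 1 ∨ y = x ∨ y = x * x ∨ y = x * x * x := by
  decide +kernel

/-- The irreducible characters of a group are even or odd under a central involution. -/
theorem irr_central_invol {K : Type u} [Group K] [Finite K] {z : K}
    (hz : z ∈ Subgroup.center K) (h2 : z * z = 1) (χ : IrrCharacter K) :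
    (∀ g, (χ : K → ℂ) (z * g) = (χ : K → ℂ) g) ∨
      ∀ g, (χ : K → ℂ) (z * g) = -(χ : K → ℂ) g := by
  obtain ⟨χ, n, ρ, hρ, rfl⟩ := χ
  haveI := hρ
  obtain ⟨c, hc⟩ := exists_scalar_of_mem_center ρ z hz
  have key : ∀ g, ρ.character (z * g) = c * ρ.character g := fun g => by
    simp only [Representation.character, map_mul, hc]
    rw [← Module.End.one_eq_id, smul_mul_assoc, one_mul, map_smul, smul_eq_mul]
  have hne : ρ.character 1 ≠ 0 := irr_degree_ne_zero ⟨n, ρ, hρ, rfl⟩
  have h := key (z * 1)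
  rw [← mul_assoc, h2, one_mul, key 1, ← mul_assoc] at h
  rcases mul_self_eq_one_iff.1 (mul_right_cancel₀ hne (h.symm.trans (one_mul _).symm)) with
    hc1 | hc1
  · exact Or.inl fun g => by simp only [key, hc1, one_mul]
  · exact Or.inr fun g => by simp only [key, hc1, neg_one_mul]

/-- A central involution `z`, a quaternion Sylow `2`-subgroup, all elements of order four
conjugate. -/
structure Q8Hyp (K : Type u) [Group K] (z : K) (S : Sylow 2 K) : Prop where
  central : z ∈ Subgroup.center K
  invol : orderOf z = 2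
  iso : Nonempty ((S : Subgroup K) ≃* QuaternionGroup 2)
  fus : ∀ s t : K, orderOf s = 4 → orderOf t = 4 → IsConj s t

namespace Q8Hyp

variable {K : Type u} [Group K] [Finite K] [Fact (Nat.Prime 2)] {z : K} {S : Sylow 2 K}

theorem comm (h : Q8Hyp K z S) (g : K) : Commute z g :=
  (Subgroup.mem_center_iff.1 h.central g).symm

theorem zz (h : Q8Hyp K z S) : z * z = 1 := invol_mul_self h.invol

theorem mem_sylow (h : Q8Hyp K z S) : z ∈ (S : Subgroup K) := by
  haveI : (Subgroup.zpowers z).Normal := ⟨fun x hx g => by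
    rw [Subgroup.mem_center_iff.1 ((Subgroup.zpowers_le.2 h.central) hx) g, mul_inv_cancel_right]
    exact hx⟩
  exact (IsPGroup.of_card (p := 2) (n := 1) (G := Subgroup.zpowers z)
    (by rw [Nat.card_zpowers, h.invol, pow_one])).le_sylow_of_normal S (Subgroup.mem_zpowers z)

theorem cases_sylow (h : Q8Hyp K z S) {s : K} (hs : s ∈ (S : Subgroup K)) :
    s = 1 ∨ s = z ∨ (orderOf s = 4 ∧ s * s = z) := by
  obtain ⟨e⟩ := h.iso
  have hz2 : e ⟨z, h.mem_sylow⟩ = .a 2 := by
    rcases q8_cases (e ⟨z, h.mem_sylow⟩) with h1 | h1 | ⟨h1, -, -⟩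
    · rw [MulEquiv.map_eq_one_iff] at h1
      exact absurd (congrArg Subtype.val h1) (invol_ne_one h.invol)
    · exact h1
    · exfalso
      apply h1
      rw [← map_mul, show (⟨z, h.mem_sylow⟩ : (S : Subgroup K)) * ⟨z, h.mem_sylow⟩ = 1 from
        Subtype.ext h.zz, map_one]
  rcases q8_cases (e ⟨s, hs⟩) with h1 | h1 | ⟨h1, h2, h3⟩
  · rw [MulEquiv.map_eq_one_iff] at h1
    exact Or.inl (congrArg Subtype.val h1)
  · rw [← hz2] at h1
    exact Or.inr (Or.inl (congrArg Subtype.val (e.injective h1)))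
  · rw [← map_mul] at h1 h2 h3
    rw [← hz2] at h2
    rw [← map_mul, MulEquiv.map_eq_one_iff] at h3
    rw [Ne, MulEquiv.map_eq_one_iff] at h1
    have h2' : s * s = z := congrArg Subtype.val (e.injective h2)
    refine Or.inr (Or.inr ⟨?_, h2'⟩)
    refine orderOf_eq_prime_pow (p := 2) (n := 1) ?_ ?_
    · rw [pow_one, sq]; exact fun hh => invol_ne_one h.invol (h2'.symm.trans hh)
    · rw [show (2 : ℕ) ^ (1 + 1) = 2 + 2 from rfl, pow_add, sq, h2', h.zz]

theorem cases_two (h : Q8Hyp K z S) {t : K} (ht : ∃ k, orderOf t = 2 ^ k) :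
    t = 1 ∨ t = z ∨ (orderOf t = 4 ∧ t * t = z) := by
  obtain ⟨k, hk⟩ := ht
  obtain ⟨T, hT⟩ := (IsPGroup.of_card (p := 2) (n := k) (G := Subgroup.zpowers t)
    (by rw [Nat.card_zpowers, hk])).exists_le_sylow
  obtain ⟨c, rfl⟩ := MulAction.exists_smul_eq K S T
  have hs : c⁻¹ * t * c ∈ (S : Subgroup K) :=
    Transfer.mem_coe_smul_sylow_iff.1 (hT (Subgroup.mem_zpowers t))
  have e : c * (c⁻¹ * t * c) * c⁻¹ = t := by group
  rcases h.cases_sylow hs with h1 | h1 | ⟨h1, h2⟩
  · left; rw [← e, h1, mul_one, mul_inv_cancel]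
  · right; left; rw [← e, h1, ← (h.comm c).eq, mul_inv_cancel_right]
  · right; right
    refine ⟨by rw [← e, orderOf_conj_eq, h1], ?_⟩
    rw [show t * t = c * (c⁻¹ * t * c * (c⁻¹ * t * c)) * c⁻¹ by group, h2, ← (h.comm c).eq,
      mul_inv_cancel_right]

theorem cases_twoPart (h : Q8Hyp K z S) (g : K) :
    twoPart g = 1 ∨ twoPart g = z ∨ orderOf (twoPart g) = 4 := by
  rcases h.cases_two (twoPart_spec g).2.1 with h1 | h1 | ⟨h1, -⟩
  · exact Or.inl h1
  · exact Or.inr (Or.inl h1)
  · exact Or.inr (Or.inr h1)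

theorem parts_z_mul (h : Q8Hyp K z S) (g : K) :
    twoPart (z * g) = z * twoPart g ∧ pPrimePart 2 (z * g) = pPrimePart 2 g := by
  obtain ⟨hc, hk, hg⟩ := twoPart_spec g
  have hord : ∃ j, orderOf (z * twoPart g) = 2 ^ j := by
    obtain ⟨k, hk⟩ := hk
    have hd : orderOf (z * twoPart g) ∣ 2 ^ (k + 1) := by
      refine orderOf_dvd_of_pow_eq_one ?_
      rw [(h.comm _).mul_pow, orderOf_dvd_iff_pow_eq_one.1
          (show orderOf z ∣ 2 ^ (k + 1) by rw [h.invol]; exact dvd_pow_self 2 k.succ_ne_zero),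
        one_mul, orderOf_dvd_iff_pow_eq_one.1
          (show orderOf (twoPart g) ∣ 2 ^ (k + 1) by rw [hk]; exact pow_dvd_pow 2 k.le_succ)]
    obtain ⟨j, -, hj⟩ := (Nat.dvd_prime_pow Nat.prime_two).1 hd
    exact ⟨j, hj⟩
  have hcomm : Commute (z * twoPart g) (pPrimePart 2 g) := (h.comm _).mul_left hc
  have e : z * g = z * twoPart g * pPrimePart 2 g := by rw [mul_assoc, hg]
  rw [e]
  exact ⟨twoPart_mul hcomm hord (not_dvd_orderOf_pPrimePart g),
    pPrimePart_mul hcomm hord (not_dvd_orderOf_pPrimePart g)⟩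

theorem regular_iff (g : K) : ¬ 2 ∣ orderOf g ↔ twoPart g = 1 := by
  refine ⟨twoPart_of_regular, fun h1 => ?_⟩
  have := (twoPart_spec g).2.2
  rw [h1, one_mul] at this
  exact this ▸ not_dvd_orderOf_pPrimePart g

theorem exists_four (h : Q8Hyp K z S) : ∃ s ∈ (S : Subgroup K), orderOf s = 4 := by
  obtain ⟨e⟩ := h.iso
  refine ⟨e.symm (.a 1), (e.symm (.a 1)).2, ?_⟩
  rw [Subgroup.orderOf_coe, MulEquiv.orderOf_eq, QuaternionGroup.orderOf_a_one]

/-- The centraliser of an element of order four. -/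
theorem centralizer_four (h : Q8Hyp K z S) {s : K} (hs : orderOf s = 4) :
    HasNormalPComplement 2 (Subgroup.centralizer ({s} : Set K)) ∧
      ∃ P : Sylow 2 (Subgroup.centralizer ({s} : Set K)), Nat.card P = 4 := by
  obtain ⟨e⟩ := h.iso
  set C := Subgroup.centralizer ({s} : Set K) with hC
  have hsC : Subgroup.zpowers s ≤ C :=
    Subgroup.zpowers_le.2 (Subgroup.mem_centralizer_singleton_iff.2 rfl)
  have hXp : IsPGroup 2 (Subgroup.zpowers s) :=
    IsPGroup.of_card (n := 2) (by rw [Nat.card_zpowers, hs]; rfl)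
  obtain ⟨P, hP⟩ := (hXp.comap_subtype (K := C)).exists_le_sylow
  obtain ⟨T, hT⟩ := (P.2.map C.subtype).exists_le_sylow
  obtain ⟨g, rfl⟩ := MulAction.exists_smul_eq K S T
  have hPS : ∀ q : C, q ∈ P → g⁻¹ * (q : K) * g ∈ (S : Subgroup K) := fun q hq =>
    Transfer.mem_smul_sylow_iff.1 (hT ⟨q, hq, rfl⟩)
  have hsP : (⟨s, hsC (Subgroup.mem_zpowers s)⟩ : C) ∈ P := hP (Subgroup.mem_zpowers s)
  have hPX : ∀ q : C, q ∈ P → (q : K) ∈ Subgroup.zpowers s := by
    intro q hq
    have hy := hPS _ hsP
    set y := g⁻¹ * s * g with hydef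
    have hy4 : orderOf y = 4 := by
      rw [hydef, show g⁻¹ * s * g = g⁻¹ * s * g⁻¹⁻¹ by rw [inv_inv], orderOf_conj_eq, hs]
    set p := g⁻¹ * (q : K) * g with hpdef
    have hcomm : y * p = p * y := by
      rw [hydef, hpdef, show g⁻¹ * s * g * (g⁻¹ * (q : K) * g) = g⁻¹ * (s * (q : K)) * g by group,
        show g⁻¹ * (q : K) * g * (g⁻¹ * s * g) = g⁻¹ * ((q : K) * s) * g by group,
        Subgroup.mem_centralizer_singleton_iff.1 q.2]
    have hne : e ⟨y, hy⟩ * e ⟨y, hy⟩ ≠ 1 := by
      rw [← map_mul, Ne, MulEquiv.map_eq_one_iff]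
      intro hh
      have h2 : orderOf y ∣ 2 :=
        orderOf_dvd_of_pow_eq_one (by rw [sq]; exact congrArg Subtype.val hh)
      rw [hy4] at h2
      norm_num at h2
    have key := q8_centralizer (e ⟨y, hy⟩) (e ⟨p, hPS q hq⟩) hne
      (by rw [← map_mul, ← map_mul]; exact congrArg e (Subtype.ext hcomm))
    obtain ⟨i, hi⟩ : ∃ i : ℕ, p = y ^ i := by
      rcases key with k1 | k1 | k1 | k1
      · rw [MulEquiv.map_eq_one_iff] at k1
        exact ⟨0, by simpa using congrArg Subtype.val k1⟩
      · exact ⟨1, by simpa using congrArg Subtype.val (e.injective k1)⟩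
      · rw [← map_mul] at k1
        exact ⟨2, by simpa [sq] using congrArg Subtype.val (e.injective k1)⟩
      · rw [← map_mul, ← map_mul] at k1
        exact ⟨3, by simpa [pow_succ] using congrArg Subtype.val (e.injective k1)⟩
    have : (q : K) = s ^ i := by
      rw [show (q : K) = g * p * g⁻¹ by rw [hpdef]; group, hi, hydef, ← conj_pow]
      group
    exact this ▸ pow_mem (Subgroup.mem_zpowers s) i
  have hPeq : (P : Subgroup C) = (Subgroup.zpowers s).subgroupOf C :=
    le_antisymm (fun q hq => hPX q hq) hP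
  refine ⟨?_, P, ?_⟩
  · refine (Transfer.hasNormalPComplement_iff_forall_centralizing P).2 fun Q hQ c hc hodd => ?_
    have hPcyc : IsCyclic P := by
      rw [hPeq]
      exact isCyclic_of_surjective (Subgroup.subgroupOfEquivOfLe hsC).symm
        (Subgroup.subgroupOfEquivOfLe hsC).symm.surjective
    haveI := hPcyc
    exact Transfer.mem_centralizer_of_isCyclic (P.2.to_le hQ)
      (isCyclic_of_injective (Subgroup.inclusion hQ) (Subgroup.inclusion_injective hQ)) hc hodd
  · rw [hPeq, Nat.card_congr (Subgroup.subgroupOfEquivOfLe hsC).toEquiv, Nat.card_zpowers, hs]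

theorem card_four (h : Q8Hyp K z S) :
    Nat.card {g : K // orderOf (twoPart g) = 4} * 4 = Nat.card K := by
  obtain ⟨s, -, hs⟩ := h.exists_four
  obtain ⟨hC, P, hP⟩ := h.centralizer_four hs
  have h1 := card_section_mul (t := s) ⟨2, by rw [hs]; rfl⟩ hC P
  rw [hP] at h1
  rw [← h1]
  congr 1
  refine Nat.card_congr (Equiv.subtypeEquivRight fun g => ⟨h.fus _ _ hs, fun hc => ?_⟩)
  obtain ⟨c, hc⟩ := isConj_iff.1 hc
  rw [← hc, orderOf_conj_eq, hs]

variable (z) in
/-- One on regular elements, minus one on the section of the central involution. -/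
noncomputable def eta (g : K) : ℂ := by
  classical exact if twoPart g = 1 then 1 else if twoPart g = z then -1 else 0

/-- Four times the indicator of the elements whose `2`-part has order four. -/
noncomputable def phi (g : K) : ℂ := by
  classical exact if orderOf (twoPart g) = 4 then 4 else 0

theorem phi_apply (g : K) [Decidable (orderOf (twoPart g) = 4)] :
    phi g = if orderOf (twoPart g) = 4 then 4 else 0 := by
  rw [phi]; congr

theorem eta_one {g : K} (h1 : twoPart g = 1) : eta z g = 1 := by simp [eta, h1]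

theorem eta_z (h : Q8Hyp K z S) {g : K} (h1 : twoPart g = z) : eta z g = -1 := by
  simp [eta, h1, invol_ne_one h.invol]

theorem eta_four (h : Q8Hyp K z S) {g : K} (h1 : orderOf (twoPart g) = 4) : eta z g = 0 := by
  have e1 : twoPart g ≠ 1 := fun e => by rw [e, orderOf_one] at h1; omega
  have e2 : twoPart g ≠ z := fun e => by rw [e, h.invol] at h1; omega
  simp [eta, e1, e2]

theorem phi_four {g : K} (h1 : orderOf (twoPart g) = 4) : phi g = 4 := by simp [phi, h1]

theorem phi_ne {g : K} (h1 : orderOf (twoPart g) ≠ 4) : phi g = 0 := by simp [phi, h1]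

theorem isClassFunction_eta (h : Q8Hyp K z S) : IsClassFunction K (eta z) := fun g c => by
  rcases h.cases_twoPart g with h1 | h1 | h1
  · rw [eta_one h1, eta_one (by rw [twoPart_conj, h1, mul_one, mul_inv_cancel])]
  · rw [h.eta_z h1, h.eta_z (by rw [twoPart_conj, h1, ← (h.comm c).eq, mul_inv_cancel_right])]
  · rw [h.eta_four h1, h.eta_four (by rw [twoPart_conj, orderOf_conj_eq, h1])]

theorem isClassFunction_phi : IsClassFunction K (phi (K := K)) := fun g c => by
  simp only [phi, twoPart_conj, orderOf_conj_eq]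

theorem eta_z_mul (h : Q8Hyp K z S) (g : K) : eta z (z * g) = -eta z g := by
  rcases h.cases_twoPart g with h1 | h1 | h1
  · rw [eta_one h1, h.eta_z (by rw [(h.parts_z_mul g).1, h1, mul_one])]
  · rw [h.eta_z h1, eta_one (by rw [(h.parts_z_mul g).1, h1, h.zz]), neg_neg]
  · rw [h.eta_four h1, h.eta_four, neg_zero]
    rcases h.cases_two (twoPart_spec (z * g)).2.1 with e | e | ⟨e, -⟩
    · exfalso
      rw [(h.parts_z_mul g).1, mul_eq_one_iff_inv_eq, invol_inv h.invol] at e
      rw [← e, h.invol] at h1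
      omega
    · exfalso
      rw [(h.parts_z_mul g).1, mul_eq_left] at e
      rw [e, orderOf_one] at h1
      omega
    · exact e

theorem four_z_mul (h : Q8Hyp K z S) (g : K) :
    orderOf (twoPart (z * g)) = 4 ↔ orderOf (twoPart g) = 4 := by
  have key : ∀ g : K, orderOf (twoPart g) = 4 → orderOf (twoPart (z * g)) = 4 := fun g h1 => by
    rcases h.cases_twoPart (z * g) with e | e | e
    · exfalso
      rw [(h.parts_z_mul g).1, mul_eq_one_iff_inv_eq, invol_inv h.invol] at e
      rw [← e, h.invol] at h1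
      omega
    · exfalso
      rw [(h.parts_z_mul g).1, mul_eq_left] at e
      rw [e, orderOf_one] at h1
      omega
    · exact e
  refine ⟨fun h1 => ?_, key g⟩
  have := key _ h1
  rwa [← mul_assoc, h.zz, one_mul] at this

variable [Fintype K]

open Classical in
/-- Sums split along the three sections. -/
theorem sum_eq (h : Q8Hyp K z S) (F : K → ℂ) :
    ∑ g, F g = ∑ w ∈ Finset.univ.filter (fun w : K => twoPart w = 1), (F w + F (z * w)) +
      ∑ g ∈ Finset.univ.filter (fun g : K => orderOf (twoPart g) = 4), F g := by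
  have hz : ∑ g ∈ Finset.univ.filter (fun g : K => twoPart g = z), F g =
      ∑ w ∈ Finset.univ.filter (fun w : K => twoPart w = 1), F (z * w) := by
    refine Finset.sum_nbij' (fun g => z * g) (fun w => z * w) ?_ ?_ ?_ ?_ ?_
    · intro g hg
      simp only [Finset.mem_filter, Finset.mem_univ, true_and] at hg ⊢
      rw [(h.parts_z_mul g).1, hg, h.zz]
    · intro g hg
      simp only [Finset.mem_filter, Finset.mem_univ, true_and] at hg ⊢
      rw [(h.parts_z_mul g).1, hg, mul_one]
    · intro g _; rw [← mul_assoc, h.zz, one_mul]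
    · intro g _; rw [← mul_assoc, h.zz, one_mul]
    · intro g _; rw [← mul_assoc, h.zz, one_mul]
  rw [Finset.sum_add_distrib, ← hz, Finset.sum_filter, Finset.sum_filter, Finset.sum_filter,
    ← Finset.sum_add_distrib, ← Finset.sum_add_distrib]
  refine Finset.sum_congr rfl fun g _ => ?_
  rcases h.cases_twoPart g with h1 | h1 | h1
  · simp [h1, (invol_ne_one h.invol).symm]
  · simp [h1, invol_ne_one h.invol, h.invol]
  · have e1 : twoPart g ≠ 1 := fun e => by rw [e, orderOf_one] at h1; omega
    have e2 : twoPart g ≠ z := fun e => by rw [e, h.invol] at h1; omega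
    simp [h1, e1, e2]

open Classical in
theorem card_four_filter (h : Q8Hyp K z S) :
    (4 : ℂ) * (Finset.univ.filter (fun g : K => orderOf (twoPart g) = 4)).card = Nat.card K := by
  rw [← Fintype.card_subtype, ← Nat.card_eq_fintype_card, ← h.card_four, mul_comm]
  push_cast; ring

omit [Fintype K] in
theorem sylow_linear (h : Q8Hyp K z S) (l : (S : Subgroup K) →* ℂˣ) :
    l ⟨z, h.mem_sylow⟩ = 1 := by
  obtain ⟨e⟩ := h.iso
  have hz2 : e ⟨z, h.mem_sylow⟩ = .a 2 := by
    rcases q8_cases (e ⟨z, h.mem_sylow⟩) with h1 | h1 | ⟨h1, -, -⟩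
    · rw [MulEquiv.map_eq_one_iff] at h1
      exact absurd (congrArg Subtype.val h1) (invol_ne_one h.invol)
    · exact h1
    · exfalso
      apply h1
      rw [← map_mul, show (⟨z, h.mem_sylow⟩ : (S : Subgroup K)) * ⟨z, h.mem_sylow⟩ = 1 from
        Subtype.ext h.zz, map_one]
  have e2 : (⟨z, h.mem_sylow⟩ : (S : Subgroup K)) =
      e.symm (.a 1) * e.symm (.xa 0) * (e.symm (.a 1))⁻¹ * (e.symm (.xa 0))⁻¹ := by
    apply e.injective
    rw [hz2, map_mul, map_mul, map_mul, map_inv, map_inv, MulEquiv.apply_symm_apply,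
      MulEquiv.apply_symm_apply]
    decide +kernel
  rw [e2, map_mul, map_mul, map_mul, map_inv, map_inv, mul_inv_cancel_comm, mul_inv_cancel]

omit [Fintype K] in
theorem card_sylow (h : Q8Hyp K z S) : Nat.card (S : Subgroup K) = 8 := by
  obtain ⟨e⟩ := h.iso
  rw [Nat.card_congr e.toEquiv, Nat.card_eq_fintype_card, QuaternionGroup.card]

theorem phi_twoPart (g : K) : phi (twoPart g) = phi g := by
  simp only [phi, twoPart_of_two (twoPart_spec g).2.1]

theorem eta_twoPart (h : Q8Hyp K z S) (g : K) : eta z (twoPart g) = eta z g := by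
  have e : twoPart (twoPart g) = twoPart g := twoPart_of_two (twoPart_spec g).2.1
  rcases h.cases_twoPart g with h1 | h1 | h1
  · rw [eta_one h1, eta_one (e.trans h1)]
  · rw [h.eta_z h1, h.eta_z (e.trans h1)]
  · rw [h.eta_four h1, h.eta_four (by rw [e, h1])]

open Classical in
theorem phi_eta_sylow (h : Q8Hyp K z S) (s : (S : Subgroup K)) :
    phi (s : K) = (if s = 1 then -4 else 0) + (if s = ⟨z, h.mem_sylow⟩ then -4 else 0) + 4 ∧
    eta z (s : K) =
      (if s = 1 then 1 else 0) - (if s = ⟨z, h.mem_sylow⟩ then 1 else 0) := by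
  classical
  have h2 : ∃ k, orderOf (s : K) = 2 ^ k := by
    rw [Subgroup.orderOf_coe]; exact (IsPGroup.iff_orderOf.1 S.2) s
  have ht := twoPart_of_two h2
  rcases h.cases_sylow s.2 with h1 | h1 | ⟨h1, -⟩
  · have hs : s = 1 := Subtype.ext h1
    subst hs
    have hne : (1 : (S : Subgroup K)) ≠ ⟨z, h.mem_sylow⟩ := fun e =>
      invol_ne_one h.invol (congrArg Subtype.val e).symm
    rw [phi_ne (by rw [ht, Subgroup.coe_one, orderOf_one]; omega),
      eta_one (by rw [ht, Subgroup.coe_one])]
    simp [hne]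
  · have hs : s = ⟨z, h.mem_sylow⟩ := Subtype.ext h1
    have hne : s ≠ 1 := fun e => invol_ne_one h.invol (by rw [← h1, e]; rfl)
    rw [phi_ne (by rw [ht, h1, h.invol]; omega), h.eta_z (by rw [ht, h1])]
    simp [hs ▸ hne, hs]
  · have hne : s ≠ 1 := fun e => by rw [e, Subgroup.coe_one, orderOf_one] at h1; omega
    have hne2 : s ≠ ⟨z, h.mem_sylow⟩ := fun e => by
      rw [e] at h1; simp only at h1; rw [h.invol] at h1; omega
    rw [phi_four (by rw [ht, h1]), h.eta_four (by rw [ht, h1])]
    simp [hne, hne2]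

theorem isGeneralized_phi_eta_sylow (h : Q8Hyp K z S) :
    IsGeneralizedCharacter (S : Subgroup K) (fun s => phi (s : K)) ∧
    IsGeneralizedCharacter (S : Subgroup K) (fun s => 2 * eta z (s : K)) := by
  classical
  haveI := Fintype.ofFinite (S : Subgroup K)
  set zS : (S : Subgroup K) := ⟨z, h.mem_sylow⟩ with hzS
  have hc : zS ∈ Subgroup.center (S : Subgroup K) :=
    Subgroup.mem_center_iff.2 fun x => Subtype.ext (h.comm x).eq.symm
  have key : ∀ ψ : IrrCharacter (S : Subgroup K), ∃ d : ℕ, (ψ : ↥(S : Subgroup K) → ℂ) 1 = d ∧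
      (((ψ : ↥(S : Subgroup K) → ℂ) zS = (ψ : ↥(S : Subgroup K) → ℂ) 1) ∨ ((ψ : ↥(S : Subgroup K) → ℂ) zS = -(ψ : ↥(S : Subgroup K) → ℂ) 1 ∧ 2 ∣ d)) := by
    intro ψ
    obtain ⟨d, hd0, hd, hdvd⟩ := irr_degree_dvd_card ψ.2
    refine ⟨d, hd, ?_⟩
    rcases irr_central_invol hc (Subtype.ext h.zz) ψ with h1 | h1
    · left; simpa using h1 1
    · refine Or.inr ⟨by simpa using h1 1, ?_⟩
      rw [h.card_sylow, show (8 : ℕ) = 2 ^ 3 from rfl] at hdvd
      obtain ⟨j, -, hj⟩ := (Nat.dvd_prime_pow Nat.prime_two).1 hdvd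
      rcases Nat.eq_zero_or_pos j with h0 | h0
      · exfalso
        rw [h0, pow_zero] at hj
        obtain ⟨l, hl⟩ := exists_hom_of_degree_one (isCharacter_of_irr ψ.2)
          (by rw [hd, hj, Nat.cast_one])
        have := h1 1
        rw [mul_one, hd, hj, Nat.cast_one, hl] at this
        simp only [hzS, h.sylow_linear l, Units.val_one] at this
        norm_num at this
      · exact hj ▸ dvd_pow_self 2 h0.ne'
  have hcl : ∀ F : K → ℂ, IsClassFunction K F →
      IsClassFunction (S : Subgroup K) (fun s => F (s : K)) := fun F hF => isClassFunction_restrict (S : Subgroup K) hF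
  have h8 : ((Nat.card (S : Subgroup K) : ℕ) : ℂ) = 8 := by rw [h.card_sylow]; norm_num
  constructor
  · refine isGeneralized_iff_inner.2 ⟨hcl _ isClassFunction_phi, fun ψ => ?_⟩
    obtain ⟨d, hd, hcase⟩ := key ψ
    have hsum : ∑ s : (S : Subgroup K), conj ((ψ : ↥(S : Subgroup K) → ℂ) s) =
        8 * conj (classInner (ψ : ↥(S : Subgroup K) → ℂ) (fun _ => 1)) := by
      rw [inner_def, map_mul, map_inv₀, map_natCast, ← mul_assoc, h8, map_sum]
      rw [mul_inv_cancel₀ (by norm_num), one_mul]
      exact Finset.sum_congr rfl fun s _ => by simp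
    obtain ⟨m, hm⟩ := inner_irr_right_nat (isCharacter_one (G := (S : Subgroup K))) ψ
    rw [inner_conj, hm] at hsum
    have e : ∑ s : (S : Subgroup K), phi (s : K) * conj ((ψ : ↥(S : Subgroup K) → ℂ) s) =
        -4 * conj ((ψ : ↥(S : Subgroup K) → ℂ) 1) + -4 * conj ((ψ : ↥(S : Subgroup K) → ℂ) zS) + 4 * (8 * m) := by
      simp only [fun s => (h.phi_eta_sylow s).1, add_mul, ite_mul, zero_mul,
        Finset.sum_add_distrib, Finset.sum_ite_eq', Finset.mem_univ, if_true, ← Finset.mul_sum,
        hsum, hzS]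
    rcases hcase with h1 | ⟨h1, -⟩
    · refine ⟨4 * m - d, ?_⟩
      rw [inner_def, h8, e, h1, hd, map_natCast]
      push_cast; ring
    · refine ⟨4 * m, ?_⟩
      rw [inner_def, h8, e, h1, hd, map_neg, map_natCast]
      push_cast; ring
  · refine isGeneralized_iff_inner.2
      ⟨fun s t => by simp only [hcl _ h.isClassFunction_eta s t], fun ψ => ?_⟩
    obtain ⟨d, hd, hcase⟩ := key ψ
    have e : ∑ s : (S : Subgroup K), 2 * eta z (s : K) * conj ((ψ : ↥(S : Subgroup K) → ℂ) s) =
        2 * conj ((ψ : ↥(S : Subgroup K) → ℂ) 1) - 2 * conj ((ψ : ↥(S : Subgroup K) → ℂ) zS) := by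
      simp only [fun s => (h.phi_eta_sylow s).2, mul_sub, sub_mul, mul_ite, mul_zero, ite_mul,
        zero_mul, mul_one, Finset.sum_sub_distrib, Finset.sum_ite_eq', Finset.mem_univ, if_true,
        hzS]
    rcases hcase with h1 | ⟨h1, c, rfl⟩
    · exact ⟨0, by rw [inner_def, h8, e, h1, sub_self, mul_zero, Int.cast_zero]⟩
    · refine ⟨c, ?_⟩
      rw [inner_def, h8, e, h1, hd, map_neg, map_natCast]
      push_cast; ring

theorem isGeneralized_phi (h : Q8Hyp K z S) : IsGeneralizedCharacter K (phi (K := K)) := by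
  have := isGeneralized_comp_twoPart isClassFunction_phi S h.isGeneralized_phi_eta_sylow.1
  simpa only [phi_twoPart] using this

/-- Twisting an even class function with even value on the elements of order four by `eta`. -/
theorem isGeneralized_mul_eta (h : Q8Hyp K z S) {θ : K → ℂ} (hθ : IsGeneralizedCharacter K θ)
    (hθz : ∀ g, θ (z * g) = θ g) {c : ℤ} (hc : Even c)
    (hθ4 : ∀ g, orderOf (twoPart g) = 4 → θ g = c) :
    IsGeneralizedCharacter K (fun g => θ g * eta z g) := by
  classical
  have hcl := isClassFunction_of_isGeneralized hθ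
  refine CharsMore.isGeneralized_of_elementary
    (fun g d => by simp only [hcl g d, h.isClassFunction_eta g d]) fun E r hr hE => ?_
  haveI : Group.IsNilpotent E := isNilpotent_of_isElementary hr hE
  haveI := Fintype.ofFinite E
  have hbody : ∀ e : E, θ (e : K) * eta z (e : K) =
      θ (pPrimePart 2 (e : K)) * eta z (twoPart (e : K)) := by
    intro e
    rw [h.eta_twoPart]
    rcases h.cases_twoPart (e : K) with h1 | h1 | h1
    · rw [pPrimePart_of_regular ((regular_iff _).2 h1)]
    · rw [← hθz (pPrimePart 2 (e : K))]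
      congr 2
      rw [← h1]; exact (twoPart_spec (e : K)).2.2.symm
    · rw [h.eta_four h1, mul_zero, mul_zero]
  have hμ0 : IsGeneralizedCharacter E (fun e : E => θ (pPrimePart 2 (e : K))) :=
    isGeneralized_comp' (oddPartHom E) hθ
  by_cases hsmall : ∀ e : E, orderOf (twoPart (e : K)) ≠ 4
  · -- the `2`-part is at most `⟨z⟩`
    let sgn : E →* ℂˣ :=
      { toFun := fun e => if twoPart (e : K) = 1 then 1 else -1
        map_one' := if_pos (twoPart_of_regular (by rw [Subgroup.coe_one, orderOf_one]; decide))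
        map_mul' := fun e e' => by
          rw [Subgroup.coe_mul, (parts_mul_of_nilpotent E e.2 e'.2).1]
          have he : twoPart (e : K) = 1 ∨ twoPart (e : K) = z := by
            rcases h.cases_twoPart (e : K) with a | a | a
            exacts [Or.inl a, Or.inr a, absurd a (hsmall e)]
          have he' : twoPart (e' : K) = 1 ∨ twoPart (e' : K) = z := by
            rcases h.cases_twoPart (e' : K) with a | a | a
            exacts [Or.inl a, Or.inr a, absurd a (hsmall e')]
          rcases he with a | a <;> rcases he' with b | b <;>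
            simp [a, b, h.zz, invol_ne_one h.invol] }
    have hsg := isGeneralized_ofChar (isCharacter_of_irr (isIrrCharacter_linear sgn))
    obtain ⟨a, b, ha, hb, hab⟩ := hμ0
    obtain ⟨a', b', ha', hb', hab'⟩ := hsg
    refine ⟨a * a' + b * b', a * b' + b * a', isCharacter_add (isCharacter_mul ha ha')
      (isCharacter_mul hb hb'), isCharacter_add (isCharacter_mul ha hb') (isCharacter_mul hb ha'),
      funext fun e => ?_⟩
    have e1 := congrFun hab e
    have e2 := congrFun hab' e
    rw [hbody]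
    have e3 : eta z (twoPart (e : K)) = ((sgn e : ℂˣ) : ℂ) := by
      rw [h.eta_twoPart]
      show _ = (((if twoPart (e : K) = 1 then 1 else -1 : ℂˣ)) : ℂ)
      rcases h.cases_twoPart (e : K) with x | x | x
      · rw [eta_one x, if_pos x]; rfl
      · rw [h.eta_z x, if_neg (x ▸ invol_ne_one h.invol)]; simp
      · exact absurd x (hsmall e)
    rw [e3]
    simp only [Pi.sub_apply] at e1 e2
    rw [e1, e2]
    simp only [Pi.sub_apply, Pi.add_apply, Pi.mul_apply]
    ring
  push Not at hsmall
  obtain ⟨e₀, he₀⟩ := hsmall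
  -- the odd part carries an even generalized character
  set W := (oddPartHom E).range with hW
  set P := (twoPartHom E).range with hP
  haveI := Fintype.ofFinite W
  haveI := Fintype.ofFinite P
  have hWE : ∀ w ∈ W, w ∈ E := by
    rintro w ⟨e, rfl⟩; exact pPrimePart_mem E e.2
  have hPE : ∀ t ∈ P, t ∈ E := by
    rintro t ⟨e, rfl⟩; exact twoPart_mem E e.2
  have hPW : ∀ (t : P) (w : W), twoPart ((t : K) * w) = t ∧ pPrimePart 2 ((t : K) * w) = w := by
    rintro ⟨t, e, rfl⟩ ⟨w, e', rfl⟩
    have hcm := (parts_mul_of_nilpotent E e.2 e'.2).2.2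
    exact ⟨twoPart_mul hcm (twoPart_spec _).2.1 (not_dvd_orderOf_pPrimePart _),
      pPrimePart_mul hcm (twoPart_spec _).2.1 (not_dvd_orderOf_pPrimePart _)⟩
  let split : E ≃ P × W :=
    { toFun := fun e => (⟨_, e, rfl⟩, ⟨_, e, rfl⟩)
      invFun := fun p => ⟨(p.1 : K) * p.2, mul_mem (hPE _ p.1.2) (hWE _ p.2.2)⟩
      left_inv := fun e => Subtype.ext (twoPart_spec (e : K)).2.2
      right_inv := fun p => Prod.ext (Subtype.ext (hPW p.1 p.2).1) (Subtype.ext (hPW p.1 p.2).2) }
  have hzP : z ∈ P := by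
    have hsq : twoPart (e₀ : K) * twoPart (e₀ : K) = z := by
      rcases h.cases_two (twoPart_spec (e₀ : K)).2.1 with a | a | ⟨-, a⟩
      · rw [a, orderOf_one] at he₀; omega
      · rw [a, h.invol] at he₀; omega
      · exact a
    exact hsq ▸ mul_mem ⟨e₀, rfl⟩ ⟨e₀, rfl⟩
  have hP4 : 4 ∣ Nat.card P := he₀ ▸ P.orderOf_dvd_natCard ⟨e₀, rfl⟩
  have hμ : IsGeneralizedCharacter W (fun w : W => θ (w : K) / 2) := by
    refine isGeneralized_iff_inner.2 ⟨fun w w' => by
      simp only; congr 1; exact hcl (w : K) (w' : K), fun lam => ?_⟩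
    obtain ⟨mW, hmW⟩ := (isGeneralized_iff_inner.1 (isGeneralized_comp' W.subtype hθ)).2 lam
    obtain ⟨dW, hdW⟩ := inner_irr_right_nat (isCharacter_one (G := W)) lam
    obtain ⟨mE, hmE⟩ : ∃ m : ℤ, classInner (fun e : E => θ (e : K))
        (fun e : E => (lam : W → ℂ) ((oddPartHom E).rangeRestrict e)) = m := by
      obtain ⟨a, b, ha, hb, hab⟩ := isGeneralized_comp' E.subtype hθ
      have hl := isCharacter_comp (oddPartHom E).rangeRestrict (isCharacter_of_irr lam.2)
      obtain ⟨x, hx⟩ := inner_char_nat ha hl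
      obtain ⟨y, hy⟩ := inner_char_nat hb hl
      refine ⟨(x : ℤ) - y, ?_⟩
      rw [show (fun e : E => θ (e : K)) = a - b from hab, Chars.inner_sub_left, hx, hy]
      push_cast; ring
    -- evaluate
    rw [inner_def] at hmW hdW hmE
    have hW0 : (Nat.card W : ℂ) ≠ 0 := card_ne_zero W
    rw [inv_mul_eq_iff_eq_mul₀ hW0] at hmW hdW
    rw [inv_mul_eq_iff_eq_mul₀ (card_ne_zero E)] at hmE
    have hval : ∀ (t : P) (w : W), θ ((t : K) * w) =
        if t = 1 ∨ t = ⟨z, hzP⟩ then θ (w : K) else (c : ℂ) := by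
      intro t w
      rcases h.cases_twoPart ((t : K) * w) with a | a | a
      · rw [(hPW t w).1] at a
        rw [if_pos (Or.inl (Subtype.ext a)), a, one_mul]
      · rw [(hPW t w).1] at a
        rw [if_pos (Or.inr (Subtype.ext a)), a, hθz]
      · rw [hθ4 _ a, if_neg]
        rw [(hPW t w).1] at a
        rintro (b | b) <;> rw [b] at a
        · rw [Subgroup.coe_one, orderOf_one] at a; omega
        · simp only at a; rw [h.invol] at a; omega
    have hone : ∑ e : E, θ (e : K) * conj ((lam : W → ℂ) ((oddPartHom E).rangeRestrict e)) =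
        2 * (∑ w : W, θ (w : K) * conj ((lam : W → ℂ) w)) +
          ((Nat.card P : ℂ) - 2) * c * ∑ w : W, (1 : ℂ) * conj ((lam : W → ℂ) w) := by
      rw [← Equiv.sum_comp split.symm, Fintype.sum_prod_type,
        Finset.sum_congr rfl (g := fun t : P => if t = 1 ∨ t = ⟨z, hzP⟩
          then ∑ w : W, θ (w : K) * conj ((lam : W → ℂ) w)
          else (c : ℂ) * ∑ w : W, (1 : ℂ) * conj ((lam : W → ℂ) w)) fun t _ => ?_]
      · rw [Finset.sum_ite, Finset.sum_const, Finset.sum_const, nsmul_eq_mul, nsmul_eq_mul]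
        have hne : (1 : P) ≠ ⟨z, hzP⟩ := fun e =>
          invol_ne_one h.invol (congrArg Subtype.val e).symm
        have h2 : (Finset.univ.filter fun t : P => t = 1 ∨ t = ⟨z, hzP⟩).card = 2 := by
          rw [show (Finset.univ.filter fun t : P => t = 1 ∨ t = ⟨z, hzP⟩) = {1, ⟨z, hzP⟩} by
            ext t; simp, Finset.card_pair hne]
        have h3 : ((Finset.univ.filter fun t : P => ¬(t = 1 ∨ t = ⟨z, hzP⟩)).card : ℂ) =
            (Nat.card P : ℂ) - 2 := by
          have := Finset.card_filter_add_card_filter_not (s := (Finset.univ : Finset P))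
            (fun t : P => t = 1 ∨ t = ⟨z, hzP⟩)
          rw [h2, Finset.card_univ, ← Nat.card_eq_fintype_card] at this
          rw [← this]; push_cast; ring
        rw [h2, h3]; push_cast; ring
      · split_ifs with ht
        · refine Finset.sum_congr rfl fun w _ => ?_
          have hr : (oddPartHom E).rangeRestrict (split.symm (t, w)) = w :=
            Subtype.ext (hPW t w).2
          rw [hr, show ((split.symm (t, w) : E) : K) = (t : K) * w from rfl, hval t w, if_pos ht]
        · rw [Finset.mul_sum]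
          refine Finset.sum_congr rfl fun w _ => ?_
          have hr : (oddPartHom E).rangeRestrict (split.symm (t, w)) = w :=
            Subtype.ext (hPW t w).2
          rw [hr, show ((split.symm (t, w) : E) : K) = (t : K) * w from rfl, hval t w, if_neg ht,
            one_mul]
    have hEPW : (Nat.card E : ℂ) = Nat.card P * Nat.card W := by
      rw [Nat.card_congr split, Nat.card_prod, Nat.cast_mul]
    change ∑ w : W, θ (w : K) * conj ((lam : W → ℂ) w) = _ at hmW
    rw [hone, hmW, hdW, hEPW] at hmE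
    obtain ⟨k, hk⟩ := hP4
    rw [hk] at hmE
    have e1 : ((2 * mW + ((4 * k : ℕ) - 2) * c * dW : ℤ) : ℂ) = ((4 * k : ℕ) * mE : ℤ) := by
      push_cast
      apply mul_left_cancel₀ hW0
      push_cast at hmE
      linear_combination hmE
    have e2 : 2 * mW + ((4 * k : ℕ) - 2) * c * dW = ((4 * k : ℕ) : ℤ) * mE := by exact_mod_cast e1
    obtain ⟨c', rfl⟩ := hc
    refine ⟨(k : ℤ) * mE - (2 * (k : ℤ) - 1) * c' * dW, ?_⟩
    have e3 : mW = 2 * ((k : ℤ) * mE - (2 * (k : ℤ) - 1) * c' * dW) := by
      push_cast at e2; linarith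
    rw [inner_def]
    simp only [div_mul_eq_mul_div, ← Finset.sum_div]
    rw [hmW, e3]
    field_simp
    push_cast
    ring
  obtain ⟨g₀, f, hf⟩ := exists_hom_sylow E S
  have h1 := isGeneralized_comp' (oddPartHom E).rangeRestrict hμ
  have h2 := isGeneralized_comp' f h.isGeneralized_phi_eta_sylow.2
  obtain ⟨a, b, ha, hb, hab⟩ := h1
  obtain ⟨a', b', ha', hb', hab'⟩ := h2
  refine ⟨a * a' + b * b', a * b' + b * a', isCharacter_add (isCharacter_mul ha ha')
    (isCharacter_mul hb hb'), isCharacter_add (isCharacter_mul ha hb') (isCharacter_mul hb ha'),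
    funext fun e => ?_⟩
  have e1 := congrFun hab e
  have e2 := congrFun hab' e
  simp only [hf, Pi.sub_apply] at e1 e2
  have e4 : eta z (g₀⁻¹ * twoPart (e : K) * g₀) = eta z (twoPart (e : K)) := by
    simpa using h.isClassFunction_eta (twoPart (e : K)) g₀⁻¹
  rw [e4] at e2
  have e5 : θ (e : K) * eta z (e : K) =
      θ (pPrimePart 2 (e : K)) / 2 * (2 * eta z (twoPart (e : K))) := by
    rw [hbody]; ring
  rw [e5]
  simp only [Pi.sub_apply, Pi.add_apply, Pi.mul_apply]
  rw [show θ (pPrimePart 2 (e : K)) / 2 = a e - b e from e1, e2]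
  ring

end Q8Hyp

end CfsgLib.Involutions.ZStar
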