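import Cfsg.Agent.Lib.Involutions.ZStar.Unique
import Cfsg.Agent.Lib.Involutions.ZStar.Q8Basic

/-!
# Fusion in the quaternion case of the Z*-theorem
-/

set_option autoImplicit false
set_option linter.style.haveILetI false

namespace CfsgLib.Involutions.ZStar

open Cfsg

universe u

theorem q8_order_three : ∀ a b : QuaternionGroup 2, a * b ≠ b * a →
    (Transfer.qMap a b)^[3] (.a 1) = .a 1 → (Transfer.qMap a b)^[3] (.xa 0) = .xa 0 →
    (a = .a 1 ∧ b = .xa 0) ∨ ∀ x y : QuaternionGroup 2, x * x ≠ 1 → y * y ≠ 1 →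
      y = x ∨ y = x⁻¹ ∨ y = Transfer.qMap a b x ∨ y = (Transfer.qMap a b x)⁻¹ ∨
        y = (Transfer.qMap a b)^[2] x ∨ y = ((Transfer.qMap a b)^[2] x)⁻¹ := by
  decide +kernel

variable {G : Type u} [Group G]

namespace MinCounterexample

variable {z : G}

theorem not_hasNormalPComplement [Finite G] (h : MinCounterexample G z) :
    ¬ HasNormalPComplement 2 G := by
  haveI : Fact (Nat.Prime 2) := ⟨Nat.prime_two⟩
  intro hcomp
  obtain ⟨S, hzS⟩ := h.exists_sylow_mem
  obtain ⟨N, hN, hN2, k, hk⟩ := Transfer.hasNormalPComplement_iff_exists.1 hcomp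
  haveI := hN
  have hbot : N = ⊥ := le_bot_iff.1 (h.core ▸ Base.le_pPrimeCore_of_not_dvd hN2)
  have hG : IsPGroup 2 G := IsPGroup.of_card (n := k) (by rw [← hk, hbot, Subgroup.index_bot])
  apply h.notCentral
  rw [Subgroup.mem_center_iff]
  intro g
  have hS : (S : Subgroup G) = ⊤ := S.is_maximal' (hG.to_subgroup ⊤) le_top ▸ rfl
  exact (h.commute_of_mem_sylow S hzS (show g ∈ (S : Subgroup G) by rw [hS]; trivial)).eq.symm

theorem isConj_of_order_four [Finite G] (h : MinCounterexample G z) (S : Sylow 2 G) (hzS : z ∈ S)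
    (e : (S : Subgroup G) ≃* QuaternionGroup 2) {s t : G} (hs : s ∈ (S : Subgroup G))
    (ht : t ∈ (S : Subgroup G)) (hs4 : orderOf s = 4) (ht4 : orderOf t = 4) :
    ∃ c : G, Commute z c ∧ c * s * c⁻¹ = t := by
  haveI : Fact (Nat.Prime 2) := ⟨Nat.prime_two⟩
  have hnc := h.not_hasNormalPComplement
  rw [Transfer.hasNormalPComplement_iff_forall_centralizing S] at hnc
  push Not at hnc
  obtain ⟨Q, hQ, g, hg, hodd, hgQ⟩ := hnc
  have hcard : Nat.card (S : Subgroup G) = 8 := by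
    rw [Nat.card_congr e.toEquiv, Nat.card_eq_fintype_card, QuaternionGroup.card]
  have hQS : Q = (S : Subgroup G) := by
    by_contra hne
    apply hgQ
    refine Transfer.mem_centralizer_of_isCyclic (S.2.to_le hQ) ?_ hg hodd
    have hQ8 : Nat.card Q ∣ 8 := hcard ▸ Subgroup.card_dvd_of_le hQ
    have hlt : Nat.card Q < 8 := by
      rcases (Nat.le_of_dvd (by norm_num) hQ8).lt_or_eq with h1 | h1
      · exact h1
      · exact absurd (Subgroup.eq_of_le_of_card_ge hQ (by rw [hcard, h1])) hne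
    have h1 : Nat.card Q = 1 ∨ Nat.card Q = 2 ∨ Nat.card Q = 4 := by
      obtain ⟨j, hj, hj'⟩ :=
        (Nat.dvd_prime_pow Nat.prime_two).1 (show Nat.card Q ∣ 2 ^ 3 from hQ8)
      interval_cases j <;> simp_all
    rcases h1 with h1 | h1 | h1
    · haveI : Subsingleton Q := (Nat.card_eq_one_iff_unique.1 h1).1
      exact isCyclic_of_subsingleton
    · exact isCyclic_of_prime_card (p := 2) h1
    · have hne1 : ∃ a : Q, orderOf a = 4 := by
        by_contra hno
        push Not at hno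
        have hsub : ∀ a : Q, (a : G) ∈ Subgroup.zpowers z := fun a => by
          have hd : orderOf a ∣ 2 ^ 2 := by
            rw [show (2 : ℕ) ^ 2 = 4 from rfl, ← h1]; exact orderOf_dvd_natCard a
          obtain ⟨j, hj, hj'⟩ := (Nat.dvd_prime_pow Nat.prime_two).1 hd
          interval_cases j
          · rw [pow_zero, orderOf_eq_one_iff] at hj'
            rw [hj', Subgroup.coe_one]; exact one_mem _
          · rw [pow_one] at hj'
            rw [h.eq_of_mem_sylow S hzS (hQ a.2) (by rw [Subgroup.orderOf_coe, hj'])]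
            exact Subgroup.mem_zpowers _
          · exact absurd hj' (hno a)
        have := Subgroup.card_le_of_le
          (show Q ≤ Subgroup.zpowers z from fun a ha => hsub ⟨a, ha⟩)
        rw [h1, Nat.card_zpowers, h.iso.1] at this
        omega
      obtain ⟨a, ha⟩ := hne1
      exact isCyclic_of_orderOf_eq_card a (by rw [ha, h1])
  subst hQS
  obtain ⟨φ, hφ⟩ := Transfer.mem_normalizer_conj_equiv hg
  have hgz : Commute z g := by
    have h1 : g * z * g⁻¹ ∈ (S : Subgroup G) := (Subgroup.mem_normalizer_iff.1 hg z).1 hzS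
    have h2 := h.eq_of_mem_sylow S hzS h1 (conj_invol g h.iso.1)
    exact (mul_inv_eq_iff_eq_mul.1 h2).symm
  set σ : MulAut (QuaternionGroup 2) := (e.symm.trans φ).trans e with hσ
  have hσn : ∀ n : ℕ, ∀ w, (σ ^ n) w = e ((φ ^ n) (e.symm w)) := by
    intro n
    induction n with
    | zero => intro w; simp
    | succ n ih =>
      intro w
      rw [pow_succ, pow_succ, MulAut.mul_apply, MulAut.mul_apply, ih, hσ]
      simp
  have h3 : σ ^ 3 = 1 := by
    have h12 := Transfer.q8_aut_pow σ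
    have hgo : σ ^ orderOf g = 1 := by
      ext w
      rw [hσn]
      have : (φ ^ orderOf g) (e.symm w) = e.symm w := by
        apply Subtype.ext
        rw [hφ, pow_orderOf_eq_one]; simp
      rw [this]; simp
    have hgcd := pow_gcd_eq_one.2 ⟨h12, hgo⟩
    have hd : Nat.gcd 12 (orderOf g) ∣ 3 := by
      have h12' : Nat.gcd 12 (orderOf g) ∣ 4 * 3 := Nat.gcd_dvd_left 12 _
      exact (Nat.Coprime.coprime_dvd_left (Nat.gcd_dvd_right 12 _)
        (by rw [show (4 : ℕ) = 2 ^ 2 from rfl]; exact hodd.pow_right 2)).dvd_of_dvd_mul_left h12'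
    obtain ⟨m, hm⟩ := hd
    rw [hm, pow_mul, hgcd, one_pow]
  set a := σ (.a 1) with ha
  set b := σ (.xa 0) with hb
  have hne : a * b ≠ b * a := by
    rw [ha, hb, ← map_mul, ← map_mul]
    exact fun hh => absurd (σ.injective hh) (by decide)
  have hit : ∀ (n : ℕ) (w : QuaternionGroup 2), (σ ^ n) w = (Transfer.qMap a b)^[n] w := by
    intro n
    induction n with
    | zero => intro w; rfl
    | succ n ih =>
      intro w
      rw [pow_succ, MulAut.mul_apply, ih, Function.iterate_succ_apply,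
        Transfer.qMap_eq σ ha.symm hb.symm]
  have i1 : (Transfer.qMap a b)^[3] (.a 1) = .a 1 := by rw [← hit, h3]; rfl
  have i2 : (Transfer.qMap a b)^[3] (.xa 0) = .xa 0 := by rw [← hit, h3]; rfl
  rcases q8_order_three a b hne i1 i2 with ⟨ha1, hb1⟩ | htr
  · exfalso
    apply hgQ
    rw [Subgroup.mem_centralizer_iff]
    intro x hx
    have hfix : ∀ w, σ w = w := fun w => by
      rw [Transfer.qMap_eq σ ha.symm hb.symm, ha1, hb1]
      revert w
      decide +kernel
    have h4 : φ ⟨x, hx⟩ = ⟨x, hx⟩ := by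
      have := hfix (e ⟨x, hx⟩)
      rw [hσ] at this
      simpa using this
    have h5 := hφ 1 ⟨x, hx⟩
    rw [pow_one, pow_one, h4] at h5
    exact eq_mul_inv_iff_mul_eq.1 h5
  have hord : ∀ x : G, ∀ hx : x ∈ (S : Subgroup G), orderOf x = 4 → e ⟨x, hx⟩ * e ⟨x, hx⟩ ≠ 1 := by
    intro x hx h4
    rw [← map_mul, Ne, MulEquiv.map_eq_one_iff]
    intro hh
    have h2 : orderOf x ∣ 2 := orderOf_dvd_of_pow_eq_one (by rw [sq]; exact congrArg Subtype.val hh)
    rw [h4] at h2
    norm_num at h2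
  obtain ⟨c₀, hc₀⟩ : ∃ c₀ : G, c₀ ∈ (S : Subgroup G) ∧ c₀ * s * c₀⁻¹ = s⁻¹ := by
    have : ∃ w : QuaternionGroup 2, w * e ⟨s, hs⟩ * w⁻¹ = (e ⟨s, hs⟩)⁻¹ := by
      generalize e ⟨s, hs⟩ = x
      revert x
      decide +kernel
    obtain ⟨w, hw⟩ := this
    refine ⟨(e.symm w : (S : Subgroup G)), (e.symm w).2, ?_⟩
    have h1 : e.symm w * ⟨s, hs⟩ * (e.symm w)⁻¹ = (⟨s, hs⟩ : (S : Subgroup G))⁻¹ := by
      apply e.injective
      simp [hw]
    exact congrArg Subtype.val h1
  have hzc : Commute z c₀ := h.commute_of_mem_sylow S hzS hc₀.1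
  -- conjugation by powers of `g`
  have hpow : ∀ (n : ℕ) (y : QuaternionGroup 2), y = (Transfer.qMap a b)^[n] (e ⟨s, hs⟩) →
      g ^ n * s * (g ^ n)⁻¹ = (e.symm y : (S : Subgroup G)) := by
    intro n y hy
    rw [← hit, hσn, MulEquiv.symm_apply_apply] at hy
    rw [hy, MulEquiv.symm_apply_apply, hφ]
  have hpown : ∀ (n : ℕ) (y : QuaternionGroup 2), y = ((Transfer.qMap a b)^[n] (e ⟨s, hs⟩))⁻¹ →
      g ^ n * c₀ * s * (g ^ n * c₀)⁻¹ = (e.symm y : (S : Subgroup G)) := by
    intro n y hy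
    rw [hy, map_inv, Subgroup.coe_inv, ← hpow n _ rfl,
      show g ^ n * c₀ * s * (g ^ n * c₀)⁻¹ = g ^ n * (c₀ * s * c₀⁻¹) * (g ^ n)⁻¹ by group, hc₀.2]
    group
  have htb : ((e.symm (e ⟨t, ht⟩) : (S : Subgroup G)) : G) = t := by simp
  rcases htr (e ⟨s, hs⟩) (e ⟨t, ht⟩) (hord s hs hs4) (hord t ht ht4) with k | k | k | k | k | k
  · exact ⟨g ^ 0, hgz.pow_right 0, (hpow 0 _ k).trans htb⟩
  · exact ⟨g ^ 0 * c₀, (hgz.pow_right 0).mul_right hzc, (hpown 0 _ k).trans htb⟩
  · exact ⟨g ^ 1, hgz.pow_right 1, (hpow 1 _ k).trans htb⟩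
  · exact ⟨g ^ 1 * c₀, (hgz.pow_right 1).mul_right hzc, (hpown 1 _ k).trans htb⟩
  · exact ⟨g ^ 2, hgz.pow_right 2, (hpow 2 _ k).trans htb⟩
  · exact ⟨g ^ 2 * c₀, (hgz.pow_right 2).mul_right hzc, (hpown 2 _ k).trans htb⟩

theorem q8Hyp [Finite G] (h : MinCounterexample G z) (S : Sylow 2 G) (hzS : z ∈ S)
    (e : (S : Subgroup G) ≃* QuaternionGroup 2) :
    ∃ S' : Sylow 2 (Subgroup.centralizer ({z} : Set G)),
      Q8Hyp (Subgroup.centralizer ({z} : Set G))
        ⟨z, Subgroup.mem_centralizer_singleton_iff.2 rfl⟩ S' := by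
  haveI : Fact (Nat.Prime 2) := ⟨Nat.prime_two⟩
  set C := Subgroup.centralizer ({z} : Set G) with hC
  have hSC : (S : Subgroup G) ≤ C := fun s hs =>
    Subgroup.mem_centralizer_singleton_iff.2 (h.commute_of_mem_sylow S hzS hs).eq.symm
  refine ⟨S.subtype hSC, ?_, ?_, ?_, ?_⟩
  · rw [Subgroup.mem_center_iff]
    intro c
    exact Subtype.ext (Subgroup.mem_centralizer_singleton_iff.1 c.2)
  · rw [← Subgroup.orderOf_coe]; exact h.iso.1
  · exact ⟨(Subgroup.subgroupOfEquivOfLe hSC).trans e⟩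
  · intro s t hs ht
    have hconj : ∀ s : C, orderOf s = 4 →
        ∃ d : C, ((d * s * d⁻¹ : C) : G) ∈ (S : Subgroup G) := by
      intro s hs
      obtain ⟨T, hT⟩ := (IsPGroup.of_card (p := 2) (n := 2) (G := Subgroup.zpowers s)
        (by rw [Nat.card_zpowers, hs]; rfl)).exists_le_sylow
      obtain ⟨c, rfl⟩ := MulAction.exists_smul_eq C (S.subtype hSC) T
      have := Transfer.mem_coe_smul_sylow_iff.1 (hT (Subgroup.mem_zpowers s))
      refine ⟨c⁻¹, ?_⟩
      rw [inv_inv]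
      exact this
    obtain ⟨d, hd⟩ := hconj s hs
    obtain ⟨d', hd'⟩ := hconj t ht
    obtain ⟨c, hcz, hc⟩ := h.isConj_of_order_four S hzS e hd hd'
      (by rw [Subgroup.orderOf_coe, orderOf_conj_eq, hs])
      (by rw [Subgroup.orderOf_coe, orderOf_conj_eq, ht])
    have h1 : IsConj (d * s * d⁻¹) (d' * t * d'⁻¹) :=
      isConj_iff.2 ⟨⟨c, Subgroup.mem_centralizer_singleton_iff.2 hcz.eq.symm⟩, Subtype.ext hc⟩
    exact (isConj_iff.2 ⟨d, rfl⟩).trans (h1.trans (isConj_iff.2 ⟨d', rfl⟩).symm)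

end MinCounterexample

end CfsgLib.Involutions.ZStar
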