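import Cfsg.Agent.Lib.Involutions.ZStar.Reduction
import Cfsg.Agent.Lib.Blocks.PrincipalBlock
import Cfsg.Agent.Lib.CharApps.PrincipalColumns
import Cfsg.Agent.Lib.CharApps.Basic
import Cfsg.Agent.Lib.BlockOrth.Integrality
import Cfsg.Agent.Lib.Chars.Integral
import Cfsg.Agent.S1182

/-!
# The Z*-theorem: a minimal counterexample has a unique involution commuting with the isolated one
-/

set_option autoImplicit false
set_option linter.style.haveILetI false

namespace CfsgLib.Involutions.ZStar

open Cfsg CfsgLib.Chars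
open scoped ComplexConjugate

universe u

variable {G : Type u} [Group G]

namespace MinCounterexample

variable {z : G}

theorem centralizer_ne_top [Finite G] (h : MinCounterexample G z) {w : G} (hw : orderOf w = 2) :
    Subgroup.centralizer ({w} : Set G) ≠ ⊤ := fun he => h.not_mem_center hw <| by
  rw [Subgroup.mem_center_iff]
  intro g
  exact Subgroup.mem_centralizer_singleton_iff.1 (he ▸ Subgroup.mem_top g)

/-- A character whose kernel contains the isolated involution is principal. -/
theorem eq_principal_of_apply_eq [Finite G] (h : MinCounterexample G z) {χ : IrrCharacter G}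
    (hχ : (χ : G → ℂ) z = (χ : G → ℂ) 1) : χ = principal G := by
  haveI := Fintype.ofFinite G
  haveI := CharApps.charKer_normal χ
  have hK := h.eq_top_of_normal (CharApps.charKer χ) hχ
  have hc : ∀ g, (χ : G → ℂ) g = (χ : G → ℂ) 1 := fun g =>
    CharApps.mem_charKer.1 (hK ▸ Subgroup.mem_top g)
  by_contra hne
  have h0 := inner_irr_ne hne
  rw [inner_def] at h0
  simp only [principal_apply, map_one, mul_one, hc, Finset.sum_const, Finset.card_univ,
    nsmul_eq_mul, Nat.card_eq_fintype_card] at h0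
  rw [inv_mul_cancel_left₀ (Nat.cast_ne_zero.2 Fintype.card_ne_zero)] at h0
  exact CharApps.deg_ne_zero χ h0

variable {M : Ideal AlgInt}

/-- Principal block characters are constant on the products of `z` with the conjugates of a
commuting involution `v`. -/
theorem apply_mul_conj [Fintype G] (h : MinCounterexample G z) (hM : IsPModular 2 M) {v : G}
    (hv : orderOf v = 2) (hzv : Commute z v) (hne : v ≠ z) {χ : IrrCharacter G}
    (hχ : χ ∈ principalBlock M G) (g : G) :
    (χ : G → ℂ) (z * (g * v * g⁻¹)) = (χ : G → ℂ) (z * v) := by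
  haveI : Fact (Nat.Prime 2) := ⟨Nat.prime_two⟩
  haveI := Blocks.isPrime_of_isPModular hM
  have hz := h.iso.1
  have hy : orderOf (g * v * g⁻¹) = 2 := conj_invol g hv
  have hnc : ∀ y, IsConj v y → ¬ IsConj z y := fun y hy' hzy =>
    hne (Isolated.eq_of_commute_isConj h.iso (hzy.trans hy'.symm) hzv)
  have hvy : IsConj v (g * v * g⁻¹) := isConj_iff.2 ⟨g, rfl⟩
  generalize g * v * g⁻¹ = y at hy hvy ⊢
  have heven : Even (orderOf (z * y)) := by
    rw [← Nat.not_odd_iff_even]
    exact fun ho => hnc y hvy (isConj_of_odd_prod hz hy ho)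
  have hw := half_invol (x := z) (y := y) heven
  have hzw := half_comm_left hz hy heven
  obtain ⟨d, -, hd⟩ := mul_half_conj_self_or hz hy heven
  rcases hd with ⟨-, hd⟩ | ⟨h4, hd⟩
  · exfalso
    have := Isolated.eq_of_commute_isConj h.iso (isConj_iff.2 ⟨d, hd⟩)
      ((Commute.refl z).mul_right hzw.symm)
    exact invol_ne_one hw (mul_eq_left.1 this)
  obtain ⟨m, hm⟩ := heven
  have hdiv : orderOf (z * y) / 2 = m := by omega
  rw [hdiv] at hd hw hzw
  obtain ⟨j, hj⟩ : Odd m := by
    rw [← Nat.not_even_iff_odd]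
    rintro ⟨j, hj⟩
    exact h4 ⟨j, by omega⟩
  have hinv := invol_conj_prod_left hz hy
  set t := z * y with ht
  set w := t ^ m with hwdef
  -- `w` is conjugate to `z * v`
  have hvw : IsConj v (z * w) := hvy.trans (isConj_iff.2 ⟨d, hd⟩)
  obtain ⟨k, hk⟩ := isConj_iff.1 hvw
  obtain ⟨c, -, hcz, hc⟩ := Cfsg.Agent.S1182.result z h.iso ⊤
    (Subgroup.mem_normalizer_iff.2 fun _ => by simp) v (z * w) (Subgroup.mem_top _)
    (Subgroup.mem_top _) hzv.symm ((Commute.refl z).mul_left hzw) k (Subgroup.mem_top _) hk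
  have hcw : IsConj (z * v) w := isConj_iff.2 ⟨c, by
    rw [show c * (z * v) * c⁻¹ = (c * z * c⁻¹) * (c * v * c⁻¹) by group, hc, hcz.eq,
      mul_inv_cancel_right, ← mul_assoc, invol_mul_self hz, one_mul]⟩
  -- the rest of `t` has odd order and lies in `O(C(w))`
  set r := w * t with hrdef
  have hwt : Commute w t := (Commute.refl t).pow_left m
  have hrm : r ^ m = 1 := by
    rw [hrdef, hwt.mul_pow, ← hwdef]
    have h2 : w ^ m = w := by
      rw [hj, pow_succ, pow_mul, show w ^ 2 = 1 by rw [sq, invol_mul_self hw], one_pow, one_mul]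
    rw [h2, invol_mul_self hw]
  have hrodd : Odd (orderOf r) := odd_of_orderOf_dvd ⟨j, hj⟩ (orderOf_dvd_of_pow_eq_one hrm)
  have hwr : Commute w r := (Commute.refl w).mul_right hwt
  have htr : w * r = t := by rw [hrdef, ← mul_assoc, invol_mul_self hw, one_mul]
  set H := Subgroup.centralizer ({w} : Set G) with hH
  have hzH : z ∈ H := Subgroup.mem_centralizer_singleton_iff.2 hzw.eq.symm
  have hrH : r ∈ H := Subgroup.mem_centralizer_singleton_iff.2 hwr.eq.symm
  have hrinv : z * r * z⁻¹ = r⁻¹ := by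
    rw [hrdef, show z * (w * t) * z⁻¹ = (z * w * z⁻¹) * (z * t * z⁻¹) by group, hinv,
      ← hzw.eq, mul_inv_cancel_right]
    rw [hwt.eq, mul_inv_rev t w, invol_inv hw]
  have hmem := h.mem_core_of_proper (h.centralizer_ne_top hw) hzH hrH
  rw [hrinv] at hmem
  have hr' : r ∈ (oddCore H).map H.subtype := by
    obtain ⟨i, hi⟩ := exists_zpow_sq_eq hrodd
    have h2 := Subgroup.zpow_mem _ hmem (-i)
    rw [← sq, ← zpow_natCast, ← zpow_mul, inv_zpow, ← zpow_neg,
      show -(((2 : ℕ) : ℤ) * -i) = i * ((2 : ℕ) : ℤ) by ring, zpow_mul, zpow_natCast, hi] at h2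
    exact h2
  obtain ⟨r', hr'mem, hr'eq⟩ := hr'
  have key := Blocks.principalBlock_apply_mul_core hM (u := w) ⟨1, by rw [hw, pow_one]⟩
    (v := r') hr'mem hχ
  rw [show (r' : G) = r from hr'eq, htr] at key
  rw [key]
  exact ((isConj_iff_forall_irr _ _).1 hcw χ).symm

/-- The multiplicativity of the principal block characters on commuting involutions. -/
theorem apply_mul_eq [Fintype G] (h : MinCounterexample G z) (hM : IsPModular 2 M) {v : G}
    (hv : orderOf v = 2) (hzv : Commute z v) (hne : v ≠ z) {χ : IrrCharacter G}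
    (hχ : χ ∈ principalBlock M G) :
    (χ : G → ℂ) 1 * (χ : G → ℂ) (z * v) = (χ : G → ℂ) z * (χ : G → ℂ) v := by
  classical
  have hs := sum_translate_class χ.2 z v
  rw [Finset.sum_congr rfl (g := fun y => if IsConj v y then (χ : G → ℂ) (z * v) else 0)
    (fun y _ => by
      split_ifs with hc
      · obtain ⟨g, rfl⟩ := isConj_iff.1 hc
        exact h.apply_mul_conj hM hv hzv hne hχ g
      · rfl),
    ← Finset.sum_filter, Finset.sum_const, nsmul_eq_mul, ← Fintype.card_subtype,
    ← Nat.card_eq_fintype_card] at hs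
  haveI : Nonempty {y : G // IsConj v y} := ⟨⟨v, IsConj.refl v⟩⟩
  have hk : (Nat.card {y : G // IsConj v y} : ℂ) ≠ 0 := Nat.cast_ne_zero.mpr Nat.card_pos.ne'
  rw [eq_div_iff (CharApps.deg_ne_zero χ)] at hs
  exact mul_left_cancel₀ hk (by linear_combination hs)

/-- No involution other than `z` commutes with `z`. -/
theorem eq_of_commute [Finite G] (h : MinCounterexample G z) {v : G} (hv : orderOf v = 2)
    (hzv : Commute z v) : v = z := by
  classical
  by_contra hne
  haveI := Fintype.ofFinite G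
  haveI : Fact (Nat.Prime 2) := ⟨Nat.prime_two⟩
  obtain ⟨M, hMax, h2M⟩ := BlockOrth.exists_maximal_above 2
  have hM : IsPModular 2 M := ⟨Nat.prime_two, hMax, h2M⟩
  haveI := Blocks.isPrime_of_isPModular hM
  haveI := irrFintype G
  have hz := h.iso.1
  have hu : orderOf (z * v) = 2 := invol_iff.2
    ⟨by rw [hzv.symm.mul_mul_mul_comm, invol_mul_self hz, invol_mul_self hv, one_mul],
      fun he => hne (by rw [eq_inv_of_mul_eq_one_right he, invol_inv hz])⟩
  have hune : z * v ≠ z := fun he => invol_ne_one hv (mul_eq_left.1 he)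
  have hzu : Commute z (z * v) := (Commute.refl z).mul_right hzv
  have hz2 : ∃ k, orderOf z = 2 ^ k := ⟨1, by rw [hz, pow_one]⟩
  have hv2 : ∃ k, orderOf v = 2 ^ k := ⟨1, by rw [hv, pow_one]⟩
  have o1 : ∑ᶠ χ ∈ principalBlock M G, (χ : G → ℂ) v * conj ((χ : G → ℂ) 1) = 0 := by
    refine CharApps.principal_column_orth hM hv2 fun c hc hconj => ?_
    have h1 : v * (c : G) = 1 := isConj_one_right.1 hconj
    have h2 : (c : G) = v := by rw [eq_inv_of_mul_eq_one_right h1, invol_inv hv]
    exact hc (by rw [← Subgroup.orderOf_coe, h2, hv])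
  have o2 : ∑ᶠ χ ∈ principalBlock M G, (χ : G → ℂ) v * conj ((χ : G → ℂ) z) = 0 :=
    CharApps.principal_column_orth_of_not_isConj hM hv2 hz2 fun hc =>
      hne (Isolated.eq_of_commute_isConj h.iso hc.symm hzv)
  rw [finsum_mem_eq_sum_of_inter_support_eq
    (t := Finset.univ.filter (· ∈ principalBlock M G)) _ (by ext; simp)] at o1 o2
  have o3 : ∑ χ ∈ Finset.univ.filter (· ∈ principalBlock M G),
      (χ : G → ℂ) v * ((χ : G → ℂ) 1 + (χ : G → ℂ) z) = 0 := by
    rw [← add_zero (0 : ℂ)]
    conv_rhs => arg 1; rw [← o1]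
    conv_rhs => arg 2; rw [← o2]
    rw [← Finset.sum_add_distrib]
    refine Finset.sum_congr rfl fun χ _ => ?_
    rw [CharApps.conj_deg, ← irr_inv χ z, invol_inv hz, mul_add]
  rw [Finset.sum_eq_single (principal G)] at o3
  · norm_num [principal_apply] at o3
  · intro χ hχ hχne
    have hχB := (Finset.mem_filter.1 hχ).2
    have e1 := h.apply_mul_eq hM hv hzv hne hχB
    have e2 := h.apply_mul_eq hM hu hzu hune hχB
    rw [← mul_assoc z z v, invol_mul_self hz, one_mul] at e2
    have e3 : (χ : G → ℂ) v * (((χ : G → ℂ) 1 - (χ : G → ℂ) z) *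
        ((χ : G → ℂ) 1 + (χ : G → ℂ) z)) = 0 := by
      linear_combination (χ : G → ℂ) 1 * e2 + (χ : G → ℂ) z * e1
    rcases mul_eq_zero.1 e3 with h0 | h0
    · rw [h0, zero_mul]
    rcases mul_eq_zero.1 h0 with h0 | h0
    · exact absurd (h.eq_principal_of_apply_eq (sub_eq_zero.1 h0).symm) hχne
    · rw [h0, mul_zero]
  · exact fun hn => absurd
      (Finset.mem_filter.2 ⟨Finset.mem_univ _, Blocks.principal_mem_principalBlock M⟩) hn

end MinCounterexample

end CfsgLib.Involutions.ZStar
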