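import Cfsg.Agent.Lib.Involutions.Isolated
import Cfsg.Agent.Lib.Base.Cores
import Cfsg.Agent.Lib.PLocal.PSolvable
import Cfsg.Prelude.Def_OddOrderLocal

/-!
# The Z*-theorem: reductions for a minimal counterexample
-/

set_option autoImplicit false

namespace CfsgLib.Involutions.ZStar

open Cfsg

universe u

variable {G : Type u} [Group G]

/-- All commutators with `z` lie in `O(G)`. -/
def CentralModCore (z : G) : Prop := ∀ g : G, z * g * z⁻¹ * g⁻¹ ∈ oddCore G

theorem commute_of_centralModCore (hO : oddCore G = ⊥) {z : G} (h : CentralModCore z) (g : G) :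
    Commute z g := by
  have := h g
  rw [hO, Subgroup.mem_bot, mul_inv_eq_one, mul_inv_eq_iff_eq_mul] at this
  exact this

/-- Isolated involutions stay isolated in quotients in which they survive. -/
theorem isolated_quotient [Finite G] {z : G} (hz : IsIsolatedInvolution z) (N : Subgroup G)
    [N.Normal] (hzN : z ∉ N) : IsIsolatedInvolution (QuotientGroup.mk' N z) := by
  constructor
  · refine invol_iff.2 ⟨?_, fun h => hzN ((QuotientGroup.eq_one_iff z).1 h)⟩
    rw [← map_mul, invol_mul_self hz.1, map_one]
  · intro q hq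
    obtain ⟨g, rfl⟩ := QuotientGroup.mk'_surjective N q
    have hc : IsConj z (g * z * g⁻¹) := isConj_iff.2 ⟨g, rfl⟩
    have hodd := Isolated.odd_orderOf_mul hz hc
    have hv := conj_invol g hz.1
    have e : QuotientGroup.mk' N g * QuotientGroup.mk' N z * (QuotientGroup.mk' N g)⁻¹ =
        QuotientGroup.mk' N (g * z * g⁻¹) := by simp
    rw [e] at hq ⊢
    generalize g * z * g⁻¹ = v at hq hv hodd hc ⊢
    have h2 : QuotientGroup.mk' N (z * v) * QuotientGroup.mk' N (z * v) = 1 := by
      rw [map_mul, hq.symm.mul_mul_mul_comm, ← map_mul, ← map_mul, ← map_mul, invol_mul_self hz.1,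
        invol_mul_self hv, one_mul, map_one]
    have h1 : QuotientGroup.mk' N (z * v) = 1 :=
      eq_one_of_eq_inv_of_odd (eq_inv_of_mul_eq_one_left h2)
        (Odd.of_dvd_nat hodd (orderOf_map_dvd _ _))
    rw [map_mul, mul_eq_one_iff_inv_eq] at h1
    rw [← h1, ← map_inv, invol_inv hz.1]

/-- Isolated involutions stay isolated in subgroups containing them. -/
theorem isolated_subgroup {z : G} (hz : IsIsolatedInvolution z) (H : Subgroup G) (hzH : z ∈ H) :
    IsIsolatedInvolution (⟨z, hzH⟩ : H) := by
  refine ⟨by rw [← Subgroup.orderOf_coe]; exact hz.1, fun h hc => Subtype.ext ?_⟩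
  exact hz.2 (h : G) (congrArg Subtype.val hc.eq)

/-- The hypotheses on a minimal counterexample to the Z*-theorem. -/
structure MinCounterexample (G : Type u) [Group G] (z : G) : Prop where
  iso : IsIsolatedInvolution z
  core : oddCore G = ⊥
  ih : ∀ (H : Type u) [Group H] [Finite H], Nat.card H < Nat.card G →
    ∀ v : H, IsIsolatedInvolution v → CentralModCore v
  notCentral : z ∉ Subgroup.center G

namespace MinCounterexample

variable {z : G}

theorem mem_core_of_proper [Finite G] (h : MinCounterexample G z) {H : Subgroup G} (hH : H ≠ ⊤)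
    (hzH : z ∈ H) {x : G} (hx : x ∈ H) :
    z * x * z⁻¹ * x⁻¹ ∈ (oddCore H).map H.subtype := by
  have hlt : Nat.card H < Nat.card G := by
    rcases (Subgroup.card_le_card_group H).lt_or_eq with h1 | h1
    · exact h1
    · exact absurd ((Subgroup.card_eq_iff_eq_top H).1 h1) hH
  exact ⟨_, h.ih H hlt _ (isolated_subgroup h.iso H hzH) ⟨x, hx⟩, rfl⟩

/-- The involution lies in no proper normal subgroup. -/
theorem eq_top_of_normal [Finite G] (h : MinCounterexample G z) (N : Subgroup G) [hN : N.Normal]
    (hzN : z ∈ N) : N = ⊤ := by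
  by_contra hne
  have hbot : (oddCore N).map N.subtype = ⊥ := by
    have e := Base.map_pPrimeCore_eq_inf (p := 2) N
    rw [show pPrimeCore 2 G = ⊥ from h.core, bot_inf_eq] at e
    exact e
  apply h.notCentral
  rw [Subgroup.mem_center_iff]
  intro g
  have hg := h.mem_core_of_proper hne hzN (hN.conj_mem z hzN g)
  rw [hbot, Subgroup.mem_bot, mul_inv_eq_one, mul_inv_eq_iff_eq_mul] at hg
  have := h.iso.2 g hg
  rwa [mul_inv_eq_iff_eq_mul] at this

/-- There is no central involution. -/
theorem not_mem_center [Finite G] (h : MinCounterexample G z) {v : G} (hv : orderOf v = 2) :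
    v ∉ Subgroup.center G := by
  intro hvc
  set N := Subgroup.zpowers v
  haveI hN : N.Normal := ⟨fun x hx g => by
    have hxc : x ∈ Subgroup.center G := (Subgroup.zpowers_le.2 hvc) hx
    rwa [Subgroup.mem_center_iff.1 hxc g, mul_inv_cancel_right]⟩
  have hNc : Nat.card N = 2 := by rw [Nat.card_zpowers, hv]
  have hzN : z ∉ N := fun hz => h.notCentral ((Subgroup.zpowers_le.2 hvc) hz)
  have hlt : Nat.card (G ⧸ N) < Nat.card G := by
    rw [Subgroup.card_eq_card_quotient_mul_card_subgroup N, hNc]
    have : 0 < Nat.card (G ⧸ N) := Nat.card_pos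
    omega
  have hq := h.ih _ hlt _ (isolated_quotient h.iso N hzN)
  set K := (oddCore (G ⧸ N)).comap (QuotientGroup.mk' N) with hK
  haveI : (oddCore (G ⧸ N)).Normal := pPrimeCore_normal 2 (G ⧸ N)
  haveI : K.Normal := inferInstanceAs ((oddCore (G ⧸ N)).comap (QuotientGroup.mk' N)).Normal
  have hKN : K ≤ N := by
    refine PLocal.le_of_central_of_pPrimeCore_eq_bot (p := 2) h.core ?_ ?_ ?_ ?_
    · exact QuotientGroup.le_comap_mk' N _
    · intro x _
      refine Subgroup.mem_centralizer_iff.2 fun y hy => ?_
      exact (Subgroup.mem_center_iff.1 ((Subgroup.zpowers_le.2 hvc) hy) x).symm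
    · exact IsPGroup.of_card (n := 1) (by rw [hNc, pow_one])
    · have e : N = (⊥ : Subgroup (G ⧸ N)).comap (QuotientGroup.mk' N) := by
        rw [MonoidHom.comap_bot, QuotientGroup.ker_mk']
      rw [e, Subgroup.relIndex_comap, hK,
        Subgroup.map_comap_eq_self_of_surjective (QuotientGroup.mk'_surjective N),
        Subgroup.relIndex_bot_left]
      exact Base.pPrimeCore_coprime 2 _
  apply h.notCentral
  rw [Subgroup.mem_center_iff]
  intro g
  have hgK : z * g * z⁻¹ * g⁻¹ ∈ K := by
    rw [hK, Subgroup.mem_comap]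
    simpa using hq (QuotientGroup.mk' N g)
  have hd : orderOf (z * g * z⁻¹ * g⁻¹) ∣ 2 := hNc ▸ N.orderOf_dvd_natCard (hKN hgK)
  have h1 : orderOf (z * g * z⁻¹ * g⁻¹) = 1 := by
    rcases (Nat.dvd_prime Nat.prime_two).1 hd with h1 | h1
    · exact h1
    · exact absurd (h1 ▸ Isolated.odd_orderOf_commutator h.iso g) (by decide)
  rw [orderOf_eq_one_iff, mul_inv_eq_one, mul_inv_eq_iff_eq_mul] at h1
  exact h1.symm

end MinCounterexample

/-- It suffices to exclude minimal counterexamples. -/
theorem centralModCore_of_no_minCounterexample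
    (hno : ∀ (G : Type u) [Group G] [Finite G] (z : G), ¬ MinCounterexample G z) :
    ∀ (G : Type u) [Group G] [Finite G] (z : G), IsIsolatedInvolution z → CentralModCore z := by
  suffices key : ∀ (n : ℕ) (G : Type u) [Group G] [Finite G], Nat.card G = n →
      ∀ z : G, IsIsolatedInvolution z → CentralModCore z from
    fun G _ _ z hz => key _ G rfl z hz
  intro n
  induction n using Nat.strong_induction_on with
  | _ n ih =>
    intro G _ _ hn z hz
    by_cases hO : oddCore G = ⊥
    · intro g
      have hcent : z ∈ Subgroup.center G := by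
        by_contra hc
        exact hno G z ⟨hz, hO, fun H _ _ hlt v hv => ih _ (hn ▸ hlt) H rfl v hv, hc⟩
      rw [show z * g = g * z from (Subgroup.mem_center_iff.1 hcent g).symm, mul_inv_cancel_right,
        mul_inv_cancel]
      exact one_mem _
    · haveI : (oddCore G).Normal := pPrimeCore_normal 2 G
      have hzO : z ∉ oddCore G := fun h => by
        have := (oddCore G).orderOf_dvd_natCard h
        rw [hz.1] at this
        exact absurd (even_iff_two_dvd.2 this) (Nat.not_even_iff_odd.2 (Base.odd_card_oddCore G))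
      have hlt : Nat.card (G ⧸ oddCore G) < n := by
        rw [← hn, Subgroup.card_eq_card_quotient_mul_card_subgroup (oddCore G)]
        refine lt_mul_of_one_lt_right Nat.card_pos ?_
        exact Subgroup.one_lt_card_iff_ne_bot _ |>.2 hO
      intro g
      have h := ih _ hlt _ rfl _ (isolated_quotient hz _ hzO) (QuotientGroup.mk' _ g)
      rw [← map_inv, ← map_inv, ← map_mul, ← map_mul, ← map_mul] at h
      rw [show oddCore (G ⧸ oddCore G) = ⊥ from Base.pPrimeCore_quotient_pPrimeCore 2 G] at h
      exact (QuotientGroup.eq_one_iff _).1 (Subgroup.mem_bot.1 h)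

end CfsgLib.Involutions.ZStar
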