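import Cfsg.Agent.Lib.BlockOrth.PPart
import Cfsg.Agent.Lib.Chars.DefectZero
import Cfsg.Agent.Lib.Chars.MonSpan
import Cfsg.Agent.Lib.Chars.Char
import Cfsg.Agent.Lib.CharsMore.BrauerInduction
import Cfsg.Agent.Lib.Transfer.NormalPComplement
import Cfsg.Agent.Lib.Transfer.Fusion

/-!
# Class functions of the `2`-part
-/

set_option autoImplicit false
set_option linter.style.haveILetI false

namespace CfsgLib.Involutions.ZStar

open Cfsg CfsgLib.Chars CfsgLib.BlockOrth
open scoped ComplexConjugate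

universe u

variable {G : Type u} [Group G]

/-! ### Generalized characters -/

theorem isGeneralized_ofChar {χ : G → ℂ} (h : IsCharacter G χ) : IsGeneralizedCharacter G χ :=
  ⟨χ, 0, h, isCharacter_zero, (sub_zero _).symm⟩

theorem isGeneralized_add' {φ ψ : G → ℂ} (h1 : IsGeneralizedCharacter G φ)
    (h2 : IsGeneralizedCharacter G ψ) : IsGeneralizedCharacter G (φ + ψ) := by
  obtain ⟨a, b, ha, hb, rfl⟩ := h1
  obtain ⟨c, d, hc, hd, rfl⟩ := h2
  exact ⟨a + c, b + d, isCharacter_add ha hc, isCharacter_add hb hd, by abel⟩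

theorem isGeneralized_sub' {φ ψ : G → ℂ} (h1 : IsGeneralizedCharacter G φ)
    (h2 : IsGeneralizedCharacter G ψ) : IsGeneralizedCharacter G (φ - ψ) := by
  obtain ⟨a, b, ha, hb, rfl⟩ := h1
  obtain ⟨c, d, hc, hd, rfl⟩ := h2
  exact ⟨a + d, b + c, isCharacter_add ha hd, isCharacter_add hb hc, by abel⟩

theorem isGeneralized_nsmul' (n : ℕ) {φ : G → ℂ} (h : IsGeneralizedCharacter G φ) :
    IsGeneralizedCharacter G ((n : ℂ) • φ) := by
  obtain ⟨a, b, ha, hb, rfl⟩ := h
  exact ⟨(n : ℂ) • a, (n : ℂ) • b, isCharacter_nsmul n ha, isCharacter_nsmul n hb, smul_sub _ _ _⟩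

theorem isGeneralized_comp' {H : Type*} [Group H] (f : H →* G) {φ : G → ℂ}
    (h : IsGeneralizedCharacter G φ) : IsGeneralizedCharacter H (fun x => φ (f x)) := by
  obtain ⟨a, b, ha, hb, rfl⟩ := h
  exact ⟨fun x => a (f x), fun x => b (f x), isCharacter_comp f ha, isCharacter_comp f hb, rfl⟩

/-! ### The `2`-part -/

variable [Finite G] [Fact (Nat.Prime 2)]

/-- The `2`-part of a group element. -/
noncomputable def twoPart (g : G) : G := g * (pPrimePart 2 g)⁻¹

theorem twoPart_spec (g : G) : Commute (twoPart g) (pPrimePart 2 g) ∧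
    (∃ k, orderOf (twoPart g) = 2 ^ k) ∧ twoPart g * pPrimePart 2 g = g := by
  obtain ⟨u, h1, h2, h3, -⟩ := isPPrimePart_pPrimePart (p := 2) g
  have e : twoPart g = u := by rw [twoPart, mul_inv_eq_iff_eq_mul]; exact h1.symm
  rw [e]
  exact ⟨h2, h3, h1⟩

theorem twoPart_mul {a b : G} (h : Commute a b) (ha : ∃ k, orderOf a = 2 ^ k)
    (hb : ¬ 2 ∣ orderOf b) : twoPart (a * b) = a := by
  rw [twoPart, pPrimePart_mul h ha hb, mul_inv_cancel_right]

theorem twoPart_of_regular {g : G} (hg : ¬ 2 ∣ orderOf g) : twoPart g = 1 := by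
  rw [twoPart, pPrimePart_of_regular hg, mul_inv_cancel]

theorem twoPart_of_two {g : G} (hg : ∃ k, orderOf g = 2 ^ k) : twoPart g = g := by
  simpa using twoPart_mul (Commute.one_right g) hg (by rw [orderOf_one]; decide)

theorem twoPart_conj (c g : G) : twoPart (c * g * c⁻¹) = c * twoPart g * c⁻¹ := by
  rw [twoPart, twoPart, pPrimePart_conj]; group

theorem isClassFunction_comp_twoPart {φ : G → ℂ} (hφ : IsClassFunction G φ) :
    IsClassFunction G (fun g => φ (twoPart g)) := fun g h => by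
  simp only [twoPart_conj]
  exact hφ _ _

theorem pPrimePart_mem (H : Subgroup G) {g : G} (hg : g ∈ H) : pPrimePart 2 g ∈ H := by
  obtain ⟨n, hn⟩ := (isPPrimePart_pPrimePart (p := 2) g).exists_pow
  exact hn ▸ pow_mem hg n

theorem twoPart_mem (H : Subgroup G) {g : G} (hg : g ∈ H) : twoPart g ∈ H :=
  mul_mem hg (inv_mem (pPrimePart_mem H hg))

/-- In a nilpotent subgroup the `2`-part and the odd part are homomorphisms. -/
theorem parts_mul_of_nilpotent (E : Subgroup G) [Group.IsNilpotent E] {g h : G} (hg : g ∈ E)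
    (hh : h ∈ E) :
    twoPart (g * h) = twoPart g * twoPart h ∧
      pPrimePart 2 (g * h) = pPrimePart 2 g * pPrimePart 2 h ∧
      Commute (twoPart g) (pPrimePart 2 h) := by
  obtain ⟨P⟩ : Nonempty (Sylow 2 E) := inferInstance
  obtain ⟨Q, hQ, -, hcard, hQc⟩ := exists_pRegular_subgroup P
  have hPn : (P : Subgroup E).Normal :=
    P.normal_of_normalizerCondition Group.normalizerCondition_of_isNilpotent
  have hP : ∀ e : E, (∃ k, orderOf (e : G) = 2 ^ k) → e ∈ (P : Subgroup E) := by
    intro e ⟨k, hk⟩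
    obtain ⟨T, hT⟩ := (IsPGroup.of_card (p := 2) (n := k) (G := Subgroup.zpowers e)
      (by rw [Nat.card_zpowers, ← Subgroup.orderOf_coe, hk])).exists_le_sylow
    obtain ⟨c, rfl⟩ := MulAction.exists_smul_eq E P T
    have := hT (Subgroup.mem_zpowers e)
    rw [Transfer.mem_coe_smul_sylow_iff] at this
    simpa [mul_assoc] using hPn.conj_mem _ this c
  have hQ' : ∀ e : E, ¬ 2 ∣ orderOf (e : G) → e ∈ Q := fun e he =>
    (hQ e).2 (by rwa [Subgroup.orderOf_coe] at he)
  have hcomm : ∀ x ∈ (P : Subgroup E), ∀ y ∈ Q, Commute (x : G) (y : G) := fun x hx y hy =>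
    (congrArg Subtype.val (hQc y hy x hx).symm :)
  have hPord : ∀ x ∈ (P : Subgroup E), ∃ k, orderOf (x : G) = 2 ^ k := fun x hx => by
    obtain ⟨k, hk⟩ := (IsPGroup.iff_orderOf.1 P.2) ⟨x, hx⟩
    exact ⟨k, by rw [Subgroup.orderOf_coe, ← Subgroup.orderOf_mk x hx]; exact hk⟩
  have ha : (⟨_, twoPart_mem E hg⟩ : E) ∈ (P : Subgroup E) := hP _ (twoPart_spec g).2.1
  have ha' : (⟨_, twoPart_mem E hh⟩ : E) ∈ (P : Subgroup E) := hP _ (twoPart_spec h).2.1
  have hb : (⟨_, pPrimePart_mem E hg⟩ : E) ∈ Q := hQ' _ (not_dvd_orderOf_pPrimePart g)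
  have hb' : (⟨_, pPrimePart_mem E hh⟩ : E) ∈ Q := hQ' _ (not_dvd_orderOf_pPrimePart h)
  have e3 : g * h = twoPart g * twoPart h * (pPrimePart 2 g * pPrimePart 2 h) := by
    conv_lhs => rw [← (twoPart_spec g).2.2, ← (twoPart_spec h).2.2]
    exact (hcomm _ ha' _ hb).symm.mul_mul_mul_comm _ _
  have h1 : Commute (twoPart g * twoPart h) (pPrimePart 2 g * pPrimePart 2 h) :=
    hcomm _ (mul_mem ha ha') _ (mul_mem hb hb')
  obtain ⟨k, hk⟩ := hPord _ (mul_mem ha ha')
  have h2 : ¬ 2 ∣ orderOf (pPrimePart 2 g * pPrimePart 2 h) := by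
    have := (hQ _).1 (mul_mem hb hb')
    rwa [← Subgroup.orderOf_coe] at this
  refine ⟨?_, ?_, hcomm _ ha _ hb'⟩
  · rw [e3]; exact twoPart_mul h1 ⟨k, hk⟩ h2
  · rw [e3]; exact pPrimePart_mul h1 ⟨k, hk⟩ h2

/-- The `2`-part as a homomorphism on a nilpotent subgroup. -/
noncomputable def twoPartHom (E : Subgroup G) [Group.IsNilpotent E] : E →* G where
  toFun e := twoPart (e : G)
  map_one' := twoPart_of_regular (by rw [Subgroup.coe_one, orderOf_one]; decide)
  map_mul' e e' := (parts_mul_of_nilpotent E e.2 e'.2).1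

theorem twoPartHom_apply (E : Subgroup G) [Group.IsNilpotent E] (e : E) :
    twoPartHom E e = twoPart (e : G) := rfl

/-- The odd part as a homomorphism on a nilpotent subgroup. -/
noncomputable def oddPartHom (E : Subgroup G) [Group.IsNilpotent E] : E →* G where
  toFun e := pPrimePart 2 (e : G)
  map_one' := pPrimePart_of_regular (by rw [Subgroup.coe_one, orderOf_one]; decide)
  map_mul' e e' := (parts_mul_of_nilpotent E e.2 e'.2).2.1

theorem oddPartHom_apply (E : Subgroup G) [Group.IsNilpotent E] (e : E) :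
    oddPartHom E e = pPrimePart 2 (e : G) := rfl

/-- The `2`-parts of a nilpotent subgroup can be conjugated into a given Sylow `2`-subgroup. -/
theorem exists_hom_sylow (E : Subgroup G) [Group.IsNilpotent E] (S : Sylow 2 G) :
    ∃ (c : G) (f : E →* (S : Subgroup G)), ∀ e : E, (f e : G) = c⁻¹ * twoPart (e : G) * c := by
  have hR : IsPGroup 2 (twoPartHom E).range := by
    rw [IsPGroup.iff_orderOf]
    rintro ⟨x, hx⟩
    obtain ⟨e, rfl⟩ := MonoidHom.mem_range.1 hx
    rw [← Subgroup.orderOf_coe]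
    exact (twoPart_spec (e : G)).2.1
  obtain ⟨T, hT⟩ := hR.exists_le_sylow
  obtain ⟨c, rfl⟩ := MulAction.exists_smul_eq G S T
  have hmem : ∀ e : E, c⁻¹ * twoPart (e : G) * c ∈ (S : Subgroup G) := fun e =>
    Transfer.mem_smul_sylow_iff.1 (hT ⟨e, rfl⟩)
  refine ⟨c, (((MulAut.conj c⁻¹).toMonoidHom.comp (twoPartHom E)).codRestrict (S : Subgroup G)
    fun e => ?_), fun e => ?_⟩
  · simpa [twoPartHom_apply] using hmem e
  · simp [twoPartHom_apply]

/-- A class function of the `2`-part is a generalized character as soon as its restriction to a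
Sylow `2`-subgroup is one. -/
theorem isGeneralized_comp_twoPart [Fintype G] {φ : G → ℂ} (hφ : IsClassFunction G φ)
    (S : Sylow 2 G) (hS : IsGeneralizedCharacter S (fun s : S => φ s)) :
    IsGeneralizedCharacter G (fun g => φ (twoPart g)) := by
  refine CharsMore.isGeneralized_of_elementary (isClassFunction_comp_twoPart hφ)
    fun E r hr hE => ?_
  haveI : Group.IsNilpotent E := isNilpotent_of_isElementary hr hE
  obtain ⟨c, f, hf⟩ := exists_hom_sylow E S
  refine cast (congrArg _ (funext fun e => ?_)) (isGeneralized_comp' f hS)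
  show φ (f e : G) = φ (twoPart (e : G))
  rw [hf]
  simpa using hφ (twoPart (e : G)) c⁻¹

/-- The number of elements whose `2`-part is conjugate to a `2`-element `t` with centralizer
having a normal `2`-complement. -/
theorem card_section_mul {t : G} (ht : ∃ k, orderOf t = 2 ^ k)
    (hC : HasNormalPComplement 2 (Subgroup.centralizer ({t} : Set G)))
    (P : Sylow 2 (Subgroup.centralizer ({t} : Set G))) :
    Nat.card {g : G // IsConj t (twoPart g)} * Nat.card P = Nat.card G := by
  classical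
  set K := pResidual 2 (Subgroup.centralizer ({t} : Set G))
  have hK : Nat.card K * Nat.card P = Nat.card (Subgroup.centralizer ({t} : Set G)) :=
    (Transfer.isComplement'_pResidual hC P).card_mul_card
  have hfib : ∀ y : {y : G // IsConj t y},
      Nat.card {g : G // twoPart g = (y : G)} = Nat.card K := by
    rintro ⟨y, hy⟩
    obtain ⟨c, rfl⟩ := isConj_iff.1 hy
    have hd : ∀ g : G, twoPart g = c * t * c⁻¹ → c⁻¹ * pPrimePart 2 g * c ∈ Subgroup.centralizer ({t} : Set G) := fun g hg => by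
      have h1 := ((twoPart_spec g).1).map (MulAut.conj c⁻¹)
      rw [hg] at h1
      simp only [MulAut.conj_apply, inv_inv] at h1
      rw [show c⁻¹ * (c * t * c⁻¹) * c = t by group] at h1
      exact Subgroup.mem_centralizer_singleton_iff.2 h1.eq.symm
    refine Nat.card_congr
      { toFun := fun g => ⟨⟨c⁻¹ * pPrimePart 2 g.1 * c, hd g.1 g.2⟩, ?_⟩
        invFun := fun d => ⟨c * (t * ((d : Subgroup.centralizer ({t} : Set G)) : G)) * c⁻¹, ?_⟩
        left_inv := fun g => ?_
        right_inv := fun d => ?_ }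
    · refine (Transfer.mem_pResidual_iff hC).2 (Nat.coprime_two_right.2 ?_)
      rw [← Subgroup.orderOf_coe, Nat.odd_iff, ← Nat.two_dvd_ne_zero]
      show ¬ 2 ∣ orderOf (c⁻¹ * pPrimePart 2 g.1 * c)
      rw [show c⁻¹ * pPrimePart 2 g.1 * c = MulAut.conj c⁻¹ (pPrimePart 2 g.1) by
        simp, MulEquiv.orderOf_eq]
      exact not_dvd_orderOf_pPrimePart _
    · rw [twoPart_conj, twoPart_mul ?_ ht]
      · rw [Subgroup.orderOf_coe, Nat.two_dvd_ne_zero, ← Nat.odd_iff, ← Nat.coprime_two_right]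
        exact (Transfer.mem_pResidual_iff hC).1 d.2
      · exact (Subgroup.mem_centralizer_singleton_iff.1 (d : Subgroup.centralizer ({t} : Set G)).2 : _ = _).symm
    · apply Subtype.ext
      show c * (t * (c⁻¹ * pPrimePart 2 g.1 * c)) * c⁻¹ = g.1
      calc c * (t * (c⁻¹ * pPrimePart 2 g.1 * c)) * c⁻¹
          = (c * t * c⁻¹) * pPrimePart 2 g.1 := by group
        _ = g.1 := by
          have h := (twoPart_spec g.1).2.2
          rwa [g.2] at h
    · apply Subtype.ext
      apply Subtype.ext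
      have hcomm : Commute t ((d : Subgroup.centralizer ({t} : Set G)) : G) :=
        (Subgroup.mem_centralizer_singleton_iff.1 (d : Subgroup.centralizer ({t} : Set G)).2 : _ = _).symm
      have hodd : ¬ 2 ∣ orderOf ((d : Subgroup.centralizer ({t} : Set G)) : G) := by
        rw [Subgroup.orderOf_coe, Nat.two_dvd_ne_zero, ← Nat.odd_iff, ← Nat.coprime_two_right]
        exact (Transfer.mem_pResidual_iff hC).1 d.2
      show c⁻¹ * pPrimePart 2 (c * (t * ((d : Subgroup.centralizer ({t} : Set G)) : G)) * c⁻¹) * c = ((d : Subgroup.centralizer ({t} : Set G)) : G)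
      rw [pPrimePart_conj, pPrimePart_mul hcomm ht hodd]
      group
  haveI := Fintype.ofFinite G
  have e : Nat.card {g : G // IsConj t (twoPart g)} =
      Nat.card {y : G // IsConj t y} * Nat.card K := by
    rw [← Nat.card_congr (Equiv.sigmaSubtypeFiberEquivSubtype (fun g : G => twoPart g)
      (p := fun g => IsConj t (twoPart g)) (q := fun y => IsConj t y) (fun g => Iff.rfl))]
    rw [Nat.card_sigma, Finset.sum_congr rfl fun y _ => hfib y, Finset.sum_const,
      Finset.card_univ, smul_eq_mul, ← Nat.card_eq_fintype_card]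
  rw [e, mul_assoc, hK, card_isConj_mul_card_centralizer t]

end CfsgLib.Involutions.ZStar
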