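import Cfsg.Agent.Lib.Involutions.ZStar.Rank2
import Cfsg.Agent.Lib.Involutions.ZStar.TwoPart
import Cfsg.Agent.Lib.PGroups.UniqueOrderP
import Cfsg.Agent.Lib.Transfer.QuaternionComplement
import Cfsg.Agent.Lib.Transfer.Alperin

/-!
# The Z*-theorem: the case of a single class of involutions, Sylow `2`-subgroups of rank one
-/

set_option autoImplicit false
set_option linter.style.haveILetI false

namespace CfsgLib.Involutions.ZStar

open Cfsg CfsgLib.Chars
open scoped ComplexConjugate

universe u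

variable {G : Type u} [Group G]

/-- The two further constituents of a generalized character of norm three containing the
principal character once. -/
theorem exists_pair_of_norm_three [Fintype G] {θ : G → ℂ} (hθ : IsGeneralizedCharacter G θ)
    (h1 : classInner θ (principal G) = 1) (h3 : classInner θ θ = 3) :
    ∃ (A B : IrrCharacter G) (p q : ℤ), A ≠ principal G ∧ B ≠ principal G ∧ A ≠ B ∧
      (p = 1 ∨ p = -1) ∧ (q = 1 ∨ q = -1) ∧
      classInner θ (A : G → ℂ) = p ∧ classInner θ (B : G → ℂ) = q ∧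
      (∀ χ : IrrCharacter G, χ ≠ principal G → χ ≠ A → χ ≠ B →
        classInner θ (χ : G → ℂ) = 0) ∧
      ∀ g, θ g = 1 + p * (A : G → ℂ) g + q * (B : G → ℂ) g := by
  classical
  haveI := irrFintype G
  obtain ⟨hcl, hint⟩ := isGeneralized_iff_inner.1 hθ
  choose m hm using hint
  have hnorm : ∑ χ : IrrCharacter G, (m χ) ^ 2 = 3 := by
    have h := inner_eq_sum hcl θ
    rw [h3] at h
    simp only [hm, map_intCast] at h
    have h' : ((∑ χ : IrrCharacter G, (m χ) ^ 2 : ℤ) : ℂ) = 3 := by
      push_cast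
      rw [h]
      exact Finset.sum_congr rfl fun χ _ => sq _
    exact_mod_cast h'
  have hm1 : m (principal G) = 1 := by
    have h := hm (principal G)
    rw [h1] at h
    exact_mod_cast h.symm
  have hsplit : ∑ χ ∈ Finset.univ.erase (principal G), (m χ) ^ 2 = 2 := by
    rw [← Finset.add_sum_erase _ _ (Finset.mem_univ (principal G)), hm1] at hnorm
    linarith
  set T := (Finset.univ.erase (principal G)).filter (fun χ => m χ ≠ 0) with hT
  have hTsum : ∑ χ ∈ T, (m χ) ^ 2 = 2 := by
    rw [hT, Finset.sum_filter_of_ne]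
    · exact hsplit
    · intro χ _ h hz; exact h (by rw [hz]; norm_num)
  have hsmall : ∀ χ ∈ T, m χ = 1 ∨ m χ = -1 := fun χ hχ => by
    have hle : (m χ) ^ 2 ≤ 2 := hTsum ▸ Finset.single_le_sum (fun ψ _ => sq_nonneg (m ψ)) hχ
    have h1' : -1 ≤ m χ := by nlinarith
    have h2' : m χ ≤ 1 := by nlinarith
    have := (Finset.mem_filter.1 hχ).2
    omega
  have hcard : T.card = 2 := by
    have : ∑ χ ∈ T, (m χ) ^ 2 = T.card := by
      rw [Finset.sum_congr rfl (g := fun _ => (1 : ℤ)) fun χ hχ => by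
        rcases hsmall χ hχ with h | h <;> rw [h] <;> norm_num]
      simp
    omega
  obtain ⟨A, B, hAB, hTeq⟩ := Finset.card_eq_two.1 hcard
  have hA : A ∈ T := by simp [hTeq]
  have hB : B ∈ T := by simp [hTeq]
  have hA1 := Finset.ne_of_mem_erase (Finset.mem_filter.1 hA).1
  have hB1 := Finset.ne_of_mem_erase (Finset.mem_filter.1 hB).1
  have hrest : ∀ χ : IrrCharacter G, χ ≠ principal G → χ ≠ A → χ ≠ B → m χ = 0 := by
    intro χ h1' h2' h3'
    by_contra h0
    have : χ ∈ T := Finset.mem_filter.2 ⟨Finset.mem_erase.2 ⟨h1', Finset.mem_univ _⟩, h0⟩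
    simp [hTeq, h2', h3'] at this
  refine ⟨A, B, m A, m B, hA1, hB1, hAB, hsmall A hA, hsmall B hB, hm A, hm B,
    fun χ a b c => by rw [hm, hrest χ a b c, Int.cast_zero], fun g => ?_⟩
  conv_lhs => rw [classFun_eq_sum hcl]
  rw [Finset.sum_apply]
  rw [← Finset.sum_subset (Finset.subset_univ {principal G, A, B}) fun χ _ hχ => by
    simp only [Finset.mem_insert, Finset.mem_singleton, not_or] at hχ
    simp [hm, hrest χ hχ.1 hχ.2.1 hχ.2.2]]
  rw [Finset.sum_insert (by simp [hA1.symm, hB1.symm]), Finset.sum_pair hAB]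
  simp [hm, hm1, principal_apply]
  ring

namespace MinCounterexample

variable {z : G}

theorem commute_of_mem_sylow [Finite G] (h : MinCounterexample G z) (S : Sylow 2 G) (hzS : z ∈ S)
    {s : G} (hs : s ∈ S) : Commute z s := by
  have hmem : z * (s * z * s⁻¹) ∈ (S : Subgroup G) :=
    mul_mem hzS (mul_mem (mul_mem hs hzS) (inv_mem hs))
  obtain ⟨k, hk⟩ := (IsPGroup.iff_orderOf.1 S.2) ⟨_, hmem⟩
  rw [Subgroup.orderOf_mk] at hk
  have hodd := Isolated.odd_orderOf_mul h.iso (isConj_iff.2 ⟨s, rfl⟩)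
  rw [hk] at hodd
  rcases Nat.eq_zero_or_pos k with h0 | h0
  · rw [h0, pow_zero, orderOf_eq_one_iff, mul_eq_one_iff_inv_eq, invol_inv h.iso.1,
      eq_mul_inv_iff_mul_eq] at hk
    exact hk
  · exact absurd hodd (Nat.not_odd_iff_even.2 (Nat.even_pow.2 ⟨even_two, h0.ne'⟩))

theorem eq_of_mem_sylow [Finite G] (h : MinCounterexample G z) (S : Sylow 2 G) (hzS : z ∈ S)
    {y : G} (hy : y ∈ S) (hy2 : orderOf y = 2) : y = z :=
  h.eq_of_commute hy2 (h.commute_of_mem_sylow S hzS hy)

theorem exists_sylow_mem [Finite G] (h : MinCounterexample G z) : ∃ S : Sylow 2 G, z ∈ S := by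
  obtain ⟨S, hS⟩ :=
    (isPGroup_closure_pair h.iso.1 h.iso.1 (Commute.refl z)).exists_le_sylow
  exact ⟨S, hS (Subgroup.subset_closure (by simp))⟩

/-- All involutions are conjugate to `z`. -/
theorem isConj_of_invol [Finite G] (h : MinCounterexample G z) {y : G} (hy : orderOf y = 2) :
    IsConj z y := by
  obtain ⟨S, hzS⟩ := h.exists_sylow_mem
  obtain ⟨g, hg⟩ := exists_conj_mem_sylow_one S hy
  exact (isConj_iff.2 ⟨g, h.eq_of_mem_sylow S hzS hg (conj_invol g hy)⟩).symm

/-- The class product identity. -/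
theorem sum_inner_mul_sq_eq_zero [Fintype G] [Fintype (IrrCharacter G)]
    (h : MinCounterexample G z) {f : G → ℂ} (hf : IsClassFunction G f)
    (h0 : ∀ g, ¬ 2 ∣ orderOf g → f g = 0) :
    ∑ χ : IrrCharacter G,
      classInner f (χ : G → ℂ) * ((χ : G → ℂ) z ^ 2 / (χ : G → ℂ) 1) = 0 := by
  classical
  haveI : Nonempty {y : G // IsConj z y} := ⟨⟨z, IsConj.refl z⟩⟩
  have hk : (Nat.card {y : G // IsConj z y} : ℂ) ≠ 0 := Nat.cast_ne_zero.mpr Nat.card_pos.ne'
  refine (mul_eq_zero.1 ?_).resolve_left hk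
  have hsum : ∑ y : G, (if IsConj z y then f (z * y) else 0) = 0 :=
    Finset.sum_eq_zero fun y _ => by
      split_ifs with hy
      · refine h0 _ ?_
        rw [Nat.two_dvd_ne_zero, ← Nat.odd_iff]
        exact Isolated.odd_orderOf_mul h.iso hy
      · rfl
  rw [← hsum]
  conv_rhs => rw [classFun_eq_sum hf]
  simp only [Finset.sum_apply, Pi.smul_apply, smul_eq_mul]
  rw [Finset.mul_sum]
  simp only [← Finset.sum_filter]
  rw [Finset.sum_comm]
  refine Finset.sum_congr rfl fun χ _ => ?_
  have hs := sum_translate_class χ.2 z z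
  rw [← Finset.sum_filter] at hs
  rw [← Finset.mul_sum, hs]
  ring

/-- A generalized character of norm three vanishing on the `2`-regular elements and at `z` does
not exist. -/
theorem false_of_norm_three [Fintype G] (h : MinCounterexample G z) {f : G → ℂ}
    (hf : IsGeneralizedCharacter G f) (h1 : classInner f (principal G) = 1)
    (h3 : classInner f f = 3) (h0 : ∀ g, ¬ 2 ∣ orderOf g → f g = 0) (hfz : f z = 0) : False := by
  classical
  haveI := irrFintype G
  obtain ⟨A, B, p, q, hA1, hB1, hAB, hp, hq, hpA, hqB, hrest, hsum⟩ :=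
    exists_pair_of_norm_three hf h1 h3
  have e := h.sum_inner_mul_sq_eq_zero (isClassFunction_of_isGeneralized hf) h0
  rw [← Finset.sum_subset (Finset.subset_univ {principal G, A, B}) fun χ _ hχ => by
    simp only [Finset.mem_insert, Finset.mem_singleton, not_or] at hχ
    rw [hrest χ hχ.1 hχ.2.1 hχ.2.2, zero_mul]] at e
  rw [Finset.sum_insert (by simp [hA1.symm, hB1.symm]), Finset.sum_pair hAB, h1, hpA, hqB] at e
  simp only [principal_apply, one_pow, div_one, mul_one] at e
  have ez := hsum z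
  have e1 := hsum 1
  rw [hfz] at ez
  rw [h0 1 (by rw [orderOf_one]; decide)] at e1
  have hda := CharApps.deg_ne_zero A
  have hdb := CharApps.deg_ne_zero B
  have hp2 : (p : ℂ) * p = 1 := by rcases hp with rfl | rfl <;> norm_num
  have hq2 : (q : ℂ) * q = 1 := by rcases hq with rfl | rfl <;> norm_num
  apply hA1
  apply h.eq_principal_of_apply_eq
  generalize (A : G → ℂ) 1 = a at *
  generalize (B : G → ℂ) 1 = b at *
  generalize (A : G → ℂ) z = α at *
  generalize (B : G → ℂ) z = β at *
  field_simp at e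
  have key : (α - a) ^ 2 = 0 := by
    grind
  exact sub_eq_zero.1 ((sq_eq_zero_iff).1 key)

/-- A Sylow `2`-subgroup is generalized quaternion. -/
theorem exists_quaternion [Finite G] (h : MinCounterexample G z) :
    ∃ (S : Sylow 2 G) (n : ℕ), 1 ≤ n ∧ z ∈ S ∧
      Nonempty ((S : Subgroup G) ≃* QuaternionGroup (2 ^ n)) := by
  haveI : Fact (Nat.Prime 2) := ⟨Nat.prime_two⟩
  obtain ⟨S, hzS⟩ := h.exists_sylow_mem
  have huniq : ∀ y : (S : Subgroup G), y ^ 2 = 1 → y ∈ Subgroup.zpowers (⟨z, hzS⟩ : (S : Subgroup G)) := by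
    intro y hy
    rcases eq_or_ne y 1 with rfl | hy1
    · exact one_mem _
    · have e : (y : G) = z := by
        refine h.eq_of_mem_sylow S hzS y.2 ?_
        rw [Subgroup.orderOf_coe]
        exact orderOf_eq_prime hy hy1
      rw [show y = ⟨z, hzS⟩ from Subtype.ext e]
      exact Subgroup.mem_zpowers _
  rcases PGroups.isCyclic_or_quaternion_of_unique S.2 (z := ⟨z, hzS⟩)
    (Subtype.ext (by simpa [sq] using invol_mul_self h.iso.1)) huniq with
    hcyc | ⟨-, n, hn, he⟩
  · exfalso
    have hcomp : HasNormalPComplement 2 G := by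
      refine (Transfer.hasNormalPComplement_iff_forall_centralizing S).2 fun Q hQ g hg hodd => ?_
      haveI := hcyc
      exact Transfer.mem_centralizer_of_isCyclic (S.2.to_le hQ)
        (isCyclic_of_injective (Subgroup.inclusion hQ) (Subgroup.inclusion_injective hQ)) hg hodd
    obtain ⟨N, hN, hN2, k, hk⟩ := Transfer.hasNormalPComplement_iff_exists.1 hcomp
    haveI := hN
    have hbot : N = ⊥ := le_bot_iff.1 (h.core ▸ Base.le_pPrimeCore_of_not_dvd hN2)
    have hG : IsPGroup 2 G := IsPGroup.of_card (n := k) (by rw [← hk, hbot, Subgroup.index_bot])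
    apply h.notCentral
    rw [Subgroup.mem_center_iff]
    intro g
    have hS : (S : Subgroup G) = ⊤ :=
      S.is_maximal' (hG.to_subgroup ⊤) le_top ▸ rfl
    exact (h.commute_of_mem_sylow S hzS (show g ∈ (S : Subgroup G) by rw [hS]; trivial)).eq.symm
  · exact ⟨S, n, hn, hzS, he⟩

end MinCounterexample

end CfsgLib.Involutions.ZStar
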